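import Groth.Agent.Lib.Helper25.LocDual.LocBase
import Groth.Agent.Lib.Helper84.Devissage

/-!
# Dévissage: `LocProp` for bounded complexes with finite cohomology
-/

set_option autoImplicit false
universe u

namespace Groth.Agent.Lib.Helper25.LocDual

open CategoryTheory CategoryTheory.Limits CategoryTheory.Pretriangulated DerivedCategory

attribute [local instance] HasDerivedCategory.standard

variable {A : Type u} [CommRing A] (S : Submonoid A)
  {I I' : CochainComplex (ModuleCat.{u} A) ℤ} [I.IsKInjective] [I'.IsKInjective] (v : I ⟶ I')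

/-- the property closed under shifts -/
def PLoc : ObjectProperty (DerivedCategory (ModuleCat.{u} A)) :=
  fun X => ∀ k n : ℤ, LocProp S ((Q.map v)⟦n⟧') (X⟦k⟧)

instance : (PLoc S v).IsClosedUnderIsomorphisms where
  of_iso e h := fun k n => (h k n).of_iso ((shiftFunctor _ k).mapIso e)

theorem pLoc_of_isZero (X : DerivedCategory (ModuleCat.{u} A)) (hX : IsZero X) : PLoc S v X :=
  fun k _ => LocProp.of_isZero _ (Functor.map_isZero (shiftFunctor _ k) hX)

theorem pLoc_ext (T : Triangle (DerivedCategory (ModuleCat.{u} A))) (hT : T ∈ distTriang _)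
    (h₁ : PLoc S v T.obj₁) (h₃ : PLoc S v T.obj₃) : PLoc S v T.obj₂ := by
  intro k n
  have hT' := Triangle.shift_distinguished T hT k
  refine LocProp.of_triangle ((Q.map v)⟦n⟧') _ hT' (h₁ k n) (h₃ k n) ?_ ?_
  · exact (h₁ (k + 1) n).of_iso ((shiftFunctorAdd' _ k 1 (k + 1) rfl).app T.obj₁)
  · exact (h₃ (k - 1) n).of_iso ((shiftFunctorAdd' _ k (-1) (k - 1) (by omega)).app T.obj₃)

variable (hv : ∀ q : ℤ, IsLocalizedModule S (v.f q).hom)

include hv in
theorem pLoc_single [IsNoetherianRing A] (M : ModuleCat.{u} A) [Module.Finite A M] (p : ℤ) :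
    PLoc S v ((DerivedCategory.singleFunctor (ModuleCat.{u} A) p).obj M) := by
  intro k n
  haveI : Module.FinitePresentation A M := Module.finitePresentation_of_finite A M
  have e : ((DerivedCategory.singleFunctor (ModuleCat.{u} A) p).obj M)⟦k⟧ ≅
      Q.obj (sglP (p - k) M) :=
    ((DerivedCategory.singleFunctors (ModuleCat.{u} A)).shiftIso k (p - k) p (by omega)).app M
  exact (locProp_single S v hv M (p - k) n).of_iso e.symm

include hv in
/-- `LocProp` for bounded complexes with finite cohomology over a Noetherian ring -/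
theorem locProp_of_bounded [IsNoetherianRing A] (X : DerivedCategory (ModuleCat.{u} A)) (a b : ℤ)
    (hX : ∀ i : ℤ, i < a ∨ b < i →
      IsZero ((DerivedCategory.homologyFunctor (ModuleCat.{u} A) i).obj X))
    (hfin : ∀ i : ℤ, Module.Finite A ((DerivedCategory.homologyFunctor (ModuleCat.{u} A) i).obj X))
    (n : ℤ) : LocProp S ((Q.map v)⟦n⟧') X := by
  have h := Groth.Agent.Lib.Helper84.Devissage.prop_of_bounded_homology (PLoc S v)
    (pLoc_of_isZero S v) (pLoc_ext S v) X a b hX (fun i => by
      haveI := hfin i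
      exact pLoc_single S v hv _ i)
  exact (h 0 n).of_iso ((shiftFunctorZero _ ℤ).app X)

end Groth.Agent.Lib.Helper25.LocDual
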