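import Mathlib.CategoryTheory.Triangulated.Pretriangulated
import Mathlib.CategoryTheory.Linear.Basic
import Mathlib.Algebra.Group.Submonoid.Basic

/-!
# Post-composition with a morphism as a "localization up to denominators"

`LocProp S u X`: for `u : W ⟶ W'` in an `A`-linear category, every `y : X ⟶ W'` is, up to
multiplication by some `s ∈ S`, of the form `x ≫ u`, and `x ≫ u = 0` implies `s • x = 0` for some
`s ∈ S`.  Two-out-of-three in distinguished triangles (five lemma).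
-/

set_option autoImplicit false
universe w v u

open CategoryTheory CategoryTheory.Limits CategoryTheory.Pretriangulated

namespace Groth.Agent.Lib.Helper25.LocDual

variable {A : Type w} [CommRing A] (S : Submonoid A)
  {C : Type u} [Category.{v} C] [Preadditive C] [Linear A C]

/-- post-composition with `u` is a localization at `S`, up to the invertibility of `S` on the
target -/
structure LocProp {W W' : C} (u : W ⟶ W') (X : C) : Prop where
  surj : ∀ y : X ⟶ W', ∃ (s : S) (x : X ⟶ W), (s : A) • y = x ≫ u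
  inj : ∀ x : X ⟶ W, x ≫ u = 0 → ∃ s : S, (s : A) • x = 0

variable {S}

theorem LocProp.of_iso {W W' : C} {u : W ⟶ W'} {X Y : C} (e : X ≅ Y) (h : LocProp S u X) :
    LocProp S u Y where
  surj y := by
    obtain ⟨s, x, hx⟩ := h.surj (e.hom ≫ y)
    refine ⟨s, e.inv ≫ x, ?_⟩
    rw [Category.assoc, ← hx, Linear.comp_smul, Iso.inv_hom_id_assoc]
  inj x hx := by
    obtain ⟨s, hs⟩ := h.inj (e.hom ≫ x) (by rw [Category.assoc, hx, comp_zero])
    refine ⟨s, ?_⟩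
    rw [← cancel_epi e.hom, Linear.comp_smul, hs, comp_zero]

theorem LocProp.of_isZero {W W' : C} (u : W ⟶ W') {X : C} (hX : IsZero X) : LocProp S u X where
  surj y := ⟨1, 0, by rw [hX.eq_of_src y 0, smul_zero, zero_comp]⟩
  inj x _ := ⟨1, by rw [hX.eq_of_src x 0, smul_zero]⟩

theorem LocProp.of_arrow_iso {W W' V V' : C} {u : W ⟶ W'} {v : V ⟶ V'} (e : W ≅ V)
    (e' : W' ≅ V') (huv : u ≫ e'.hom = e.hom ≫ v) {X : C} (h : LocProp S u X) :
    LocProp S v X where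
  surj y := by
    obtain ⟨s, x, hx⟩ := h.surj (y ≫ e'.inv)
    refine ⟨s, x ≫ e.hom, ?_⟩
    rw [Category.assoc, ← huv, ← Category.assoc, ← hx, Linear.smul_comp, Category.assoc,
      Iso.inv_hom_id, Category.comp_id]
  inj x hx := by
    obtain ⟨s, hs⟩ := h.inj (x ≫ e.inv) (by
      rw [← cancel_mono e'.hom, Category.assoc, Category.assoc, huv, Iso.inv_hom_id_assoc, hx,
        zero_comp])
    refine ⟨s, ?_⟩
    rw [← cancel_mono e.inv, Linear.smul_comp, hs, zero_comp]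

section Triangle

variable [HasZeroObject C] [HasShift C ℤ] [∀ n : ℤ, (shiftFunctor C n).Additive]
  [Pretriangulated C]

/-- the five lemma -/
theorem LocProp.of_triangle {W W' : C} (u : W ⟶ W') (T : Triangle C) (hT : T ∈ distTriang C)
    (h₁ : LocProp S u T.obj₁) (h₃ : LocProp S u T.obj₃)
    (h₁' : LocProp S u (T.obj₁⟦(1 : ℤ)⟧)) (h₃' : LocProp S u (T.obj₃⟦(-1 : ℤ)⟧)) :
    LocProp S u T.obj₂ := by
  have hT' := inv_rot_of_distTriang _ hT
  have z12 : T.mor₁ ≫ T.mor₂ = 0 := comp_distTriang_mor_zero₁₂ _ hT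
  have z23 : T.mor₂ ≫ T.mor₃ = 0 := comp_distTriang_mor_zero₂₃ _ hT
  let k : T.obj₃⟦(-1 : ℤ)⟧ ⟶ T.obj₁ := T.invRotate.mor₁
  have z01 : k ≫ T.mor₁ = 0 := comp_distTriang_mor_zero₁₂ _ hT'
  have E1 : ∀ {Y : C} (x₁ : T.obj₁ ⟶ Y), k ≫ x₁ = 0 → ∃ x₂ : T.obj₂ ⟶ Y, x₁ = T.mor₁ ≫ x₂ :=
    fun x₁ h => Triangle.yoneda_exact₂ _ hT' x₁ h
  constructor
  · intro y
    obtain ⟨s₁, x₁, hx₁⟩ := h₁.surj (T.mor₁ ≫ y)
    obtain ⟨s₂, hs₂⟩ := h₃'.inj (k ≫ x₁) (by
      rw [Category.assoc, ← hx₁, Linear.comp_smul, reassoc_of% z01, zero_comp, smul_zero])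
    obtain ⟨x₂, hx₂⟩ := E1 ((s₂ : A) • x₁) (by
      rw [Linear.comp_smul]; exact hs₂)
    obtain ⟨y₃, hy₃⟩ := Triangle.yoneda_exact₂ _ hT (x₂ ≫ u - ((s₂ : A) * (s₁ : A)) • y) (by
      rw [Preadditive.comp_sub, ← Category.assoc, ← hx₂, Linear.smul_comp, ← hx₁,
        Linear.comp_smul, mul_smul, sub_self])
    obtain ⟨s₃, x₃, hx₃⟩ := h₃.surj y₃
    refine ⟨s₃ * s₂ * s₁, (s₃ : A) • x₂ - T.mor₂ ≫ x₃, ?_⟩
    rw [Preadditive.sub_comp, Category.assoc, ← hx₃, Linear.comp_smul, ← hy₃, smul_sub,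
      Linear.smul_comp, sub_sub_cancel]
    simp only [Submonoid.coe_mul, mul_smul, mul_assoc]
  · intro x hx
    obtain ⟨s₁, hs₁⟩ := h₁.inj (T.mor₁ ≫ x) (by rw [Category.assoc, hx, comp_zero])
    obtain ⟨x₃, hx₃⟩ := Triangle.yoneda_exact₂ _ hT ((s₁ : A) • x) (by
      rw [Linear.comp_smul]; exact hs₁)
    obtain ⟨y₁, hy₁⟩ := Triangle.yoneda_exact₃ _ hT (x₃ ≫ u) (by
      rw [← Category.assoc, ← hx₃, Linear.smul_comp, hx, smul_zero])
    obtain ⟨s₂, x₁', hx₁'⟩ := h₁'.surj y₁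
    obtain ⟨s₃, hs₃⟩ := h₃.inj ((s₂ : A) • x₃ - T.mor₃ ≫ x₁') (by
      rw [Preadditive.sub_comp, Linear.smul_comp, hy₁, Category.assoc, ← hx₁', Linear.comp_smul,
        sub_self])
    refine ⟨s₃ * s₂ * s₁, ?_⟩
    have h4 : (s₃ : A) • (s₂ : A) • x₃ = (s₃ : A) • (T.mor₃ ≫ x₁') := by
      rw [← sub_eq_zero, ← smul_sub]; exact hs₃
    have h5 : ((s₃ * s₂ * s₁ : S) : A) • x = T.mor₂ ≫ ((s₃ : A) • (s₂ : A) • x₃) := by
      rw [Linear.comp_smul, Linear.comp_smul, ← hx₃]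
      simp only [Submonoid.coe_mul, mul_smul]
    rw [h5, h4, Linear.comp_smul, reassoc_of% z23, zero_comp, smul_zero]

end Triangle

end Groth.Agent.Lib.Helper25.LocDual
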