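import Groth.Agent.Lib.Helper25.LocDual.CochainAdj
import Groth.Agent.Lib.Helper25.LocDual.LocProp
import Groth.Agent.Lib.Helper25.Bidual.Elem

/-!
# Endomorphisms and self-extensions of `ext I` from those of `I`
-/

set_option autoImplicit false
universe u

namespace Groth.Agent.Lib.Helper25.LocDual

open CategoryTheory CategoryTheory.Limits CochainComplex CochainComplex.HomComplex DerivedCategory
open Groth.Agent.Lib.Helper25.LocColim Groth.Agent.Lib.Helper25.Bidual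

attribute [local instance] HasDerivedCategory.standard

theorem ofHom_smul_id_comp {R : Type u} [CommRing R] {K L : DRing.Cx R} {n : ℤ} (a : R)
    (z : Cochain K L n) : (Cochain.ofHom (a • 𝟙 K)).comp z (zero_add n) = a • z := by
  refine Cochain.ext _ _ (fun p q hpq => ?_)
  rw [Cochain.zero_cochain_comp_v, Cochain.ofHom_v, Cochain.smul_v]
  change (a • 𝟙 (K.X p)) ≫ z.v p q hpq = _
  rw [Linear.smul_comp, Category.id_comp]

variable {A B : Type u} [CommRing A] [CommRing B] (φ : A →+* B) (S : Submonoid A)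
  (hunit : ∀ s : S, IsUnit (φ s)) (I : DRing.Cx A)

/-- `ext I` -/
noncomputable abbrev JJ : DRing.Cx B := (DTen.extCx φ).obj I

/-- `res (ext I)` -/
noncomputable abbrev II' : DRing.Cx A := (DTen.resCx φ).obj (JJ φ I)

/-- the unit `I ⟶ res (ext I)` -/
noncomputable abbrev vv : I ⟶ II' φ I := (DTen.unitCx φ).app I

variable [(JJ φ I).IsKInjective] [(II' φ I).IsKInjective]

include hunit in
theorem subsingleton_ext_self (n : ℤ)
    (hLoc : LocProp S ((Q.map (vv φ I))⟦n⟧') (Q.obj I))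
    (hExt : Subsingleton (Q.obj I ⟶ (Q.obj I)⟦n⟧)) :
    Subsingleton (Q.obj (JJ φ I) ⟶ (Q.obj (JJ φ I))⟦n⟧) := by
  suffices ∀ g : Q.obj (JJ φ I) ⟶ (Q.obj (JJ φ I))⟦n⟧, g = 0 from
    ⟨fun g g' => by rw [this g, this g']⟩
  intro g
  obtain ⟨z, rfl⟩ := kappa_surjective _ _ n g
  rw [kappa_mk_eq_zero_iff]
  -- the `A`-linear cocycle
  let ζ : Cocycle I (II' φ I) n := Cocycle.mk (flat φ I (JJ φ I) z.1) (n + 1) rfl (by
    rw [δ_flat, Cocycle.δ_eq_zero, flat]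
    rw [Cochain.map_zero, Cochain.comp_zero])
  obtain ⟨s, x, hx⟩ := hLoc.surj (kappa I (II' φ I) n (CohomologyClass.mk ζ))
  have hx0 : x = 0 := Subsingleton.elim _ _
  rw [hx0, zero_comp] at hx
  -- `s • κ(ζ) = κ(ζ.precomp (s • 𝟙))`
  have h1 : (s : A) • kappa I (II' φ I) n (CohomologyClass.mk ζ) =
      kappa I (II' φ I) n (CohomologyClass.mk (ζ.precomp ((s : A) • 𝟙 I))) := by
    rw [kappa_mk_precomp, Functor.map_smul, CategoryTheory.Functor.map_id, Linear.smul_comp,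
      Category.id_comp]
  rw [h1, kappa_mk_eq_zero_iff, mem_coboundaries_iff _ (n - 1) (by omega)] at hx
  obtain ⟨w, hw⟩ := hx
  have h2 : (ζ.precomp ((s : A) • 𝟙 I)).1 = flat φ I (JJ φ I) (φ s • z.1) := by
    rw [flat_smul]
    exact ofHom_smul_id_comp (s : A) (flat φ I (JJ φ I) z.1)
  rw [h2] at hw
  obtain ⟨w', hw'⟩ := exists_δ_eq_of_flat φ I (JJ φ I) _ w hw.symm
  obtain ⟨σ, hσ⟩ := hunit s
  rw [mem_coboundaries_iff _ (n - 1) (by omega)]
  refine ⟨(σ⁻¹ : Bˣ).1 • w', ?_⟩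
  rw [δ_smul, ← hw', ← hσ, smul_smul, Units.inv_mul, one_smul]

omit [(JJ φ I).IsKInjective] [(II' φ I).IsKInjective] in
theorem ofHom_smul {R : Type u} [CommRing R] {K L : DRing.Cx R} (a : R) (f : K ⟶ L) :
    Cochain.ofHom (a • f) = a • Cochain.ofHom f := by
  have h1 := ofHom_smul_id_comp a (Cochain.ofHom f)
  have h2 : (Cochain.ofHom (a • 𝟙 K)).comp (Cochain.ofHom f) (zero_add 0) =
      Cochain.ofHom ((a • 𝟙 K) ≫ f) := (Cochain.ofHom_comp _ _).symm
  rw [← h1, h2, Linear.smul_comp, Category.id_comp]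

omit [(JJ φ I).IsKInjective] [(II' φ I).IsKInjective] in
theorem flat_comb (g₀ : JJ φ I ⟶ JJ φ I) (s a : A) :
    flat φ I (JJ φ I) (φ s • Cochain.ofHom g₀ - φ a • Cochain.ofHom (𝟙 (JJ φ I))) =
      Cochain.ofHom (s • (vv φ I ≫ (DTen.resCx φ).map g₀)) - Cochain.ofHom (a • vv φ I) := by
  rw [flat_sub, flat_smul, flat_smul, flat_ofHom, flat_ofHom, CategoryTheory.Functor.map_id,
    ofHom_smul, ofHom_smul]
  erw [Category.comp_id]

omit [(JJ φ I).IsKInjective] in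
/-- transfer of homotopies from `A` to `B` -/
theorem Qmap_transfer (g₀ : JJ φ I ⟶ JJ φ I) (s a : A)
    (h : Q.map (s • (vv φ I ≫ (DTen.resCx φ).map g₀)) = Q.map (a • vv φ I)) :
    Q.map (φ s • g₀) = Q.map (φ a • 𝟙 (JJ φ I)) := by
  obtain ⟨w, hw⟩ := exists_delta_of_Qmap_eq _ _ h
  rw [← flat_comb] at hw
  obtain ⟨w', hw'⟩ := exists_δ_eq_of_flat φ I (JJ φ I) _ w hw
  refine Qmap_eq_of_delta _ _ w' ?_
  rw [ofHom_smul, ofHom_smul]
  exact hw'

omit [(II' φ I).IsKInjective] in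
/-- transfer of homotopies from `B` to `A` -/
theorem Qmap_transfer' (g₀ : JJ φ I ⟶ JJ φ I) (s a : A)
    (h : Q.map (φ s • g₀) = Q.map (φ a • 𝟙 (JJ φ I))) :
    Q.map (s • (vv φ I ≫ (DTen.resCx φ).map g₀)) = Q.map (a • vv φ I) := by
  obtain ⟨w', hw'⟩ := exists_delta_of_Qmap_eq _ _ h
  rw [ofHom_smul, ofHom_smul] at hw'
  refine Qmap_eq_of_delta _ _ (flat φ I (JJ φ I) w') ?_
  rw [← flat_comb, hw', δ_flat]

include hunit in
theorem bijective_toEnd (hsurjB : ∀ b : B, ∃ (a : A) (s : S), φ s * b = φ a)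
    (hLoc : LocProp S (Q.map (vv φ I)) (Q.obj I))
    (hEnd : Function.Bijective (fun a : A => a • 𝟙 (Q.obj I))) :
    Function.Bijective (fun b : B => b • 𝟙 (Q.obj (JJ φ I))) := by
  have hinj : ∀ b : B, b • 𝟙 (Q.obj (JJ φ I)) = 0 → b = 0 := by
    intro b hb
    obtain ⟨a, s, has⟩ := hsurjB b
    have h1 : Q.map (φ a • 𝟙 (JJ φ I)) = Q.map (φ 0 • 𝟙 (JJ φ I)) := by
      rw [map_zero, zero_smul, Functor.map_zero, Functor.map_smul, CategoryTheory.Functor.map_id,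
        ← has, mul_smul, hb, smul_zero]
    have h2 := Qmap_transfer' φ I (𝟙 (JJ φ I)) a 0 h1
    rw [CategoryTheory.Functor.map_id, Category.comp_id, zero_smul, Functor.map_zero,
      Functor.map_smul] at h2
    obtain ⟨t, ht⟩ := hLoc.inj (a • 𝟙 (Q.obj I)) (by
      rw [Linear.smul_comp, Category.id_comp]; exact h2)
    have h3 : ((t : A) * a) • 𝟙 (Q.obj I) = (0 : A) • 𝟙 (Q.obj I) := by
      rw [mul_smul, ht, zero_smul]
    have h4 : (t : A) * a = 0 := hEnd.1 h3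
    have h5 : φ t * φ a = 0 := by rw [← map_mul, h4, map_zero]
    have h6 : φ a = 0 := (hunit t).mul_right_eq_zero.1 h5
    rw [h6] at has
    exact (hunit s).mul_right_eq_zero.1 has
  constructor
  · intro b b' hbb
    have : (b - b') • 𝟙 (Q.obj (JJ φ I)) = 0 := by
      rw [sub_smul]; exact sub_eq_zero.2 hbb
    exact sub_eq_zero.1 (hinj _ this)
  · intro g
    obtain ⟨g₀, rfl⟩ := exists_Qmap_eq (JJ φ I) g
    obtain ⟨s, x, hx⟩ := hLoc.surj (Q.map (vv φ I ≫ (DTen.resCx φ).map g₀))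
    obtain ⟨a, rfl⟩ := hEnd.2 x
    have h1 : Q.map ((s : A) • (vv φ I ≫ (DTen.resCx φ).map g₀)) = Q.map (a • vv φ I) := by
      rw [Functor.map_smul, hx, Functor.map_smul, Linear.smul_comp, Category.id_comp]
    have h2 := Qmap_transfer φ I g₀ s a h1
    rw [Functor.map_smul, Functor.map_smul, CategoryTheory.Functor.map_id] at h2
    obtain ⟨σ, hσ⟩ := hunit s
    refine ⟨(σ⁻¹ : Bˣ).1 * φ a, ?_⟩
    change ((σ⁻¹ : Bˣ).1 * φ a) • 𝟙 (Q.obj (JJ φ I)) = Q.map g₀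
    rw [mul_smul, ← h2, ← hσ, smul_smul, Units.inv_mul, one_smul]

end Groth.Agent.Lib.Helper25.LocDual
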