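import Groth.Agent.Lib.Helper25.LocDual.UnitLoc
import Groth.Agent.Lib.Helper25.LocDual.LocEnd
import Groth.Agent.Lib.Helper25.LocDual.LocDev
import Groth.Agent.Lib.Helper25.Bidual.Main
import Groth.Agent.Lib.Helper25.TrivDual2
import Groth.Agent.Lib.Helper15.LBCFlat
import Groth.Agent.Lib.Helper84.HomFinite
import Groth.Agent.S12537

/-!
# Localization of a dualizing complex is dualizing
-/

set_option autoImplicit false
universe u

namespace Groth.Agent.Lib.Helper25.LocDual

open CategoryTheory CategoryTheory.Limits CategoryTheory.Pretriangulated DerivedCategory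
open Groth.Agent.Lib.Helper84 Groth.Agent.Lib.Helper25.Bidual

attribute [local instance] HasDerivedCategory.standard

variable {A B : Type u} [CommRing A] [CommRing B] (φ : A →+* B) (S : Submonoid A)

theorem flat_of_isLocalization (hloc : @IsLocalization A _ S B _ φ.toAlgebra) : φ.Flat := by
  letI := φ.toAlgebra
  haveI := hloc
  exact IsLocalization.flat B S

theorem locProp_unshift {X : Dual.D A} {I I' : DRing.Cx A} (v : I ⟶ I')
    (h : LocProp S ((Q.map v)⟦(0 : ℤ)⟧') X) : LocProp S (Q.map v) X :=
  LocProp.of_arrow_iso ((shiftFunctorZero _ ℤ).app _) ((shiftFunctorZero _ ℤ).app _)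
    ((shiftFunctorZero (Dual.D A) ℤ).hom.naturality (Q.map v)) h

theorem isDualizing_ext [IsNoetherianRing A] (hloc : @IsLocalization A _ S B _ φ.toAlgebra)
    (I : DRing.Cx A) (a b : ℤ) (hab : a ≤ b) (hI : ∀ n, Injective (I.X n))
    (hz : ∀ i, (i < a ∨ b < i) → IsZero (I.X i))
    (hω : Dual.IsDualizing A (Q.obj I)) :
    Dual.IsDualizing B (Q.obj ((DTen.extCx φ).obj I)) := by
  have hflat : φ.Flat := flat_of_isLocalization φ S hloc
  haveI : PreservesFiniteLimits (FlatBC.ext φ) := FlatBC.preservesFiniteLimits_ext φ hflat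
  have hNB : IsNoetherianRing B := by
    letI := φ.toAlgebra
    haveI := hloc
    exact IsLocalization.isNoetherianRing S B inferInstance
  have hunit : ∀ s : S, IsUnit (φ s) := by
    letI := φ.toAlgebra
    haveI := hloc
    exact fun s => IsLocalization.map_units B s
  have hsurjB : ∀ b : B, ∃ (a : A) (s : S), φ s * b = φ a := by
    letI := φ.toAlgebra
    haveI := hloc
    intro b
    obtain ⟨⟨a, s⟩, h⟩ := IsLocalization.surj S b
    exact ⟨a, s, by rw [mul_comm]; exact h⟩
  -- injectivity / vanishing of `J` and `I'`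
  have hJinj : ∀ n, Injective ((JJ φ I).X n) := fun n => by
    haveI := hI n
    exact injective_ext φ S hloc (I.X n)
  have hJz : ∀ i, (i < a ∨ b < i) → IsZero ((JJ φ I).X i) := fun i hi =>
    Functor.map_isZero (ModuleCat.extendScalars.{u, u, u} φ) (hz i hi)
  have hI'inj : ∀ n, Injective ((II' φ I).X n) := fun n => by
    haveI := hJinj n
    exact injective_res φ hflat ((JJ φ I).X n)
  have hI'z : ∀ i, (i < a ∨ b < i) → IsZero ((II' φ I).X i) := fun i hi =>
    Functor.map_isZero (ModuleCat.restrictScalars.{u} φ) (hJz i hi)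
  haveI : I.IsStrictlyGE a := by
    rw [CochainComplex.isStrictlyGE_iff]
    exact fun i hi => hz i (Or.inl hi)
  haveI : (JJ φ I).IsStrictlyGE a := by
    rw [CochainComplex.isStrictlyGE_iff]
    exact fun i hi => hJz i (Or.inl hi)
  haveI : (II' φ I).IsStrictlyGE a := by
    rw [CochainComplex.isStrictlyGE_iff]
    exact fun i hi => hI'z i (Or.inl hi)
  haveI : I.IsKInjective := CochainComplex.isKInjective_of_injective I a
  haveI : (JJ φ I).IsKInjective := CochainComplex.isKInjective_of_injective (JJ φ I) a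
  haveI : (II' φ I).IsKInjective := CochainComplex.isKInjective_of_injective (II' φ I) a
  -- the localization property
  have hv : ∀ q : ℤ, IsLocalizedModule S ((vv φ I).f q).hom := fun q =>
    isLocalizedModule_unit φ S hloc (I.X q)
  have hLoc : ∀ n : ℤ, LocProp S ((Q.map (vv φ I))⟦n⟧') (Q.obj I) := fun n =>
    locProp_of_bounded S (vv φ I) hv (Q.obj I) a b
      (fun i hi => HomFinite.isZero_homology_Q I i (hz i hi))
      (fun i => hω.finite_cohomology i) n
  have hLoc0 : LocProp S (Q.map (vv φ I)) (Q.obj I) := locProp_unshift S (vv φ I) (hLoc 0)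
  refine
    { isNoetherianRing := hNB
      finite_injective_dimension := ⟨a, b, fun M _ _ i hi => ?_⟩
      finite_cohomology := fun i => ?_
      toEnd_bijective := bijective_toEnd φ S hunit I hsurjB hLoc0 hω.toEnd_bijective
      ext_self_subsingleton := fun i hi =>
        subsingleton_ext_self φ S hunit I i (hLoc i) (hω.ext_self_subsingleton i hi) }
  · have h := (Groth.Agent.S12537.result (ModuleCat.{u} B) (Q.obj (JJ φ I)) a b hab).2
      ⟨JJ φ I, hJinj, hJz, ⟨Iso.refl _⟩⟩ (ModuleCat.of B M) i hi
    exact ⟨fun f g => by rw [h f, h g]⟩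
  · have h1 := TrivDual.finite_homology_bc φ (Q.obj I) i (hω.finite_cohomology i)
    exact Module.Finite.equiv
      ((DerivedCategory.homologyFunctor (ModuleCat.{u} B) i).mapIso
        (FlatBC.bcToD φ I)).toLinearEquiv

theorem main [IsNoetherianRing A] (hloc : @IsLocalization A _ S B _ φ.toAlgebra)
    [DRing.HasLBaseChange φ] (ω : Dual.D A) (hω : Dual.IsDualizing A ω) :
    Dual.IsDualizing B ((DRing.LBaseChange φ).obj ω) := by
  have hflat : φ.Flat := flat_of_isLocalization φ S hloc
  haveI : PreservesFiniteLimits (FlatBC.ext φ) := FlatBC.preservesFiniteLimits_ext φ hflat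
  obtain ⟨I, a, b, hI, hz, ⟨e⟩⟩ := exists_bounded_injective_model ω hω
  have hz' : ∀ i, (i < a ∨ max a b < i) → IsZero (I.X i) := fun i hi => by
    rcases hi with hi | hi
    · exact hz i (Or.inl hi)
    · exact hz i (Or.inr (lt_of_le_of_lt (le_max_right a b) hi))
  have h := isDualizing_ext φ S hloc I a (max a b) (le_max_left a b) hI hz'
    (isDualizing_of_iso e.symm hω)
  exact isDualizing_of_iso ((FlatBC.bcToD φ I).symm ≪≫
    ((Groth.Agent.Lib.Helper15.LBCFlat.lbcFlatIso φ).symm.app (Q.obj I)) ≪≫
    (DRing.LBaseChange φ).mapIso e) h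

end Groth.Agent.Lib.Helper25.LocDual
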