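import Groth.Agent.Lib.Helper25.LocDual.HomLoc
import Groth.Agent.Lib.Helper25.LocDual.Main

/-!
# Localization of `Ext^n(M, ω)` for a finite module `M`
-/

set_option autoImplicit false
universe u

namespace Groth.Agent.Lib.Helper25.LocDual

open CategoryTheory CategoryTheory.Limits CategoryTheory.Pretriangulated DerivedCategory
open Groth.Agent.Lib.Helper84 Groth.Agent.Lib.Helper25.Bidual

attribute [local instance] HasDerivedCategory.standard

theorem subsingleton_hom_congr_left {C : Type*} [Category C] {X X' Y : C} (e : X ≅ X') :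
    Subsingleton (X ⟶ Y) ↔ Subsingleton (X' ⟶ Y) := by
  constructor
  · intro h
    exact ⟨fun f g => by
      rw [← cancel_epi e.hom]
      exact h.elim _ _⟩
  · intro h
    exact ⟨fun f g => by
      rw [← cancel_epi e.inv]
      exact h.elim _ _⟩

theorem subsingleton_hom_congr_right {C : Type*} [Category C] {X Y Y' : C} (e : Y ≅ Y') :
    Subsingleton (X ⟶ Y) ↔ Subsingleton (X ⟶ Y') := by
  constructor
  · intro h
    exact ⟨fun f g => by
      rw [← cancel_mono e.inv]
      exact h.elim _ _⟩
  · intro h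
    exact ⟨fun f g => by
      rw [← cancel_mono e.hom]
      exact h.elim _ _⟩

variable {A B : Type u} [CommRing A] [CommRing B] (φ : A →+* B) (S : Submonoid A)

/-- K-injectivity of the three complexes -/
theorem kinj_triple [IsNoetherianRing A] (hloc : @IsLocalization A _ S B _ φ.toAlgebra)
    (I : DRing.Cx A) (a b : ℤ) (hI : ∀ n, Injective (I.X n))
    (hz : ∀ i, (i < a ∨ b < i) → IsZero (I.X i)) :
    I.IsKInjective ∧ (JJ φ I).IsKInjective ∧ (II' φ I).IsKInjective := by
  have hflat : φ.Flat := flat_of_isLocalization φ S hloc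
  have hJinj : ∀ n, Injective ((JJ φ I).X n) := fun n => by
    haveI := hI n
    exact injective_ext φ S hloc (I.X n)
  have hJz : ∀ i, (i < a ∨ b < i) → IsZero ((JJ φ I).X i) := fun i hi =>
    Functor.map_isZero (ModuleCat.extendScalars.{u, u, u} φ) (hz i hi)
  have hI'inj : ∀ n, Injective ((II' φ I).X n) := fun n => by
    haveI := hJinj n
    exact injective_res φ hflat ((JJ φ I).X n)
  have hI'z : ∀ i, (i < a ∨ b < i) → IsZero ((II' φ I).X i) := fun i hi =>
    Functor.map_isZero (ModuleCat.restrictScalars.{u} φ) (hJz i hi)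
  haveI : I.IsStrictlyGE a := by
    rw [CochainComplex.isStrictlyGE_iff]
    exact fun i hi => hz i (Or.inl hi)
  haveI : (JJ φ I).IsStrictlyGE a := by
    rw [CochainComplex.isStrictlyGE_iff]
    exact fun i hi => hJz i (Or.inl hi)
  haveI : (II' φ I).IsStrictlyGE a := by
    rw [CochainComplex.isStrictlyGE_iff]
    exact fun i hi => hI'z i (Or.inl hi)
  exact ⟨CochainComplex.isKInjective_of_injective I a,
    CochainComplex.isKInjective_of_injective (JJ φ I) a,
    CochainComplex.isKInjective_of_injective (II' φ I) a⟩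

/-- localization of `Ext^n(M, I)` vanishes iff `Ext^n(M_S, I_S)` vanishes -/
theorem locZero_hom_single_iff [IsNoetherianRing A]
    (hloc : @IsLocalization A _ S B _ φ.toAlgebra)
    (I : DRing.Cx A) (a b : ℤ) (hI : ∀ n, Injective (I.X n))
    (hz : ∀ i, (i < a ∨ b < i) → IsZero (I.X i))
    (M : ModuleCat.{u} A) [Module.Finite A M] (n : ℤ) :
    LocZero S ((DerivedCategory.singleFunctor (ModuleCat.{u} A) 0).obj M ⟶ (Q.obj I)⟦n⟧) ↔
      Subsingleton ((DerivedCategory.singleFunctor (ModuleCat.{u} B) 0).obj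
        ((ModuleCat.extendScalars.{u, u, u} φ).obj M) ⟶ (Q.obj (JJ φ I))⟦n⟧) := by
  obtain ⟨h1, h2, h3⟩ := kinj_triple φ S hloc I a b hI hz
  haveI := h1
  haveI := h2
  haveI := h3
  have hunit : ∀ s : S, IsUnit (φ s) := by
    letI := φ.toAlgebra
    haveI := hloc
    exact fun s => IsLocalization.map_units B s
  have hv : ∀ q : ℤ, IsLocalizedModule S ((vv φ I).f q).hom := fun q =>
    isLocalizedModule_unit φ S hloc (I.X q)
  haveI : Module.FinitePresentation A M := Module.finitePresentation_of_finite A M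
  let ι : (DerivedCategory.singleFunctor (ModuleCat.{u} A) 0).obj M ≅ Q.obj (sglP 0 M) :=
    (DerivedCategory.singleFunctorIsoCompQ (ModuleCat.{u} A) 0).app M
  let ι' : (DerivedCategory.singleFunctor (ModuleCat.{u} B) 0).obj
      ((ModuleCat.extendScalars.{u, u, u} φ).obj M) ≅
      Q.obj ((DTen.extCx φ).obj (sglP 0 M)) :=
    (DerivedCategory.singleFunctorIsoCompQ (ModuleCat.{u} B) 0).app _ ≪≫
      Q.mapIso ((HomologicalComplex.singleMapHomologicalComplex
        (ModuleCat.extendScalars.{u, u, u} φ) (ComplexShape.up ℤ) 0).app M).symm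
  have hLoc : LocProp S ((Q.map (vv φ I))⟦n⟧')
      ((DerivedCategory.singleFunctor (ModuleCat.{u} A) 0).obj M) :=
    (locProp_single S (vv φ I) hv M 0 n).of_iso ι.symm
  rw [locZero_hom_iff φ S hunit I _ n hLoc, subsingleton_hom_congr_left ι,
    ← subsingleton_hom_ext_iff φ (sglP 0 M) (JJ φ I) n, subsingleton_hom_congr_left ι']

end Groth.Agent.Lib.Helper25.LocDual
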