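import Groth.Agent.Lib.Helper25.LocDual.ExtVanish
import Groth.Agent.Lib.Helper25.LocDual.HomLocSingle
import Groth.Agent.Lib.Helper25.Bidual.Main
import Groth.Agent.Lib.Helper84.Devissage

/-!
# `RHom(N, ω)` is concentrated in nonpositive degrees for `N ∈ D^{≥ 0}` (S19132)
-/

set_option autoImplicit false
universe u

namespace Groth.Agent.Lib.Helper25.LocDual

open CategoryTheory CategoryTheory.Limits CategoryTheory.Pretriangulated DerivedCategory
open Groth.Agent.Lib.Helper84 Groth.Agent.Lib.Helper25.Bidual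

attribute [local instance] HasDerivedCategory.standard

theorem subsingleton_hom_of_shift {C : Type*} [Category C] [Preadditive C] [HasShift C ℤ]
    {X Y X' Y' : C} (j : ℤ) (e₁ : X⟦j⟧ ≅ X') (e₂ : Y⟦j⟧ ≅ Y') (h : Subsingleton (X' ⟶ Y')) :
    Subsingleton (X ⟶ Y) := by
  refine ⟨fun f g => ?_⟩
  apply (shiftFunctor C j).map_injective
  rw [← cancel_epi e₁.inv, ← cancel_mono e₂.hom]
  exact h.elim _ _

variable {A : Type u} [CommRing A] [IsNoetherianRing A] [IsLocalRing A]

/-- the property `Hom(X, Y[i]) = 0` for `i > 0` -/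
def PVan (Y : Dual.D A) : ObjectProperty (Dual.D A) :=
  fun X => ∀ i : ℤ, 0 < i → Subsingleton (X ⟶ Y⟦i⟧)

instance (Y : Dual.D A) : (PVan Y).IsClosedUnderIsomorphisms where
  of_iso e h := fun i hi => (subsingleton_hom_congr_left e).1 (h i hi)

theorem hom_vanish_of_ge_zero (ω : Dual.D A) (hω : Dual.IsDualizing A ω)
    (hnorm : Dual.IsNormalized A ω) (N : Dual.D A)
    (hfin : ∀ i : ℤ, Module.Finite A (Dual.HD A N i))
    (b : ℤ) (hb : ∀ i : ℤ, b < i → Subsingleton (Dual.HD A N i))
    (hge : ∀ i : ℤ, i < 0 → Subsingleton (Dual.HD A N i)) (i : ℤ) (hi : 0 < i) :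
    Subsingleton (N ⟶ ω⟦i⟧) := by
  obtain ⟨I, a, b', hI, hz, ⟨eI⟩⟩ := exists_bounded_injective_model ω hω
  have hz' : ∀ i, (i < a ∨ max a b' < i) → IsZero (I.X i) := fun i hi => by
    rcases hi with hi | hi
    · exact hz i (Or.inl hi)
    · exact hz i (Or.inr (lt_of_le_of_lt (le_max_right a b') hi))
  have hωI := isDualizing_of_iso eI.symm hω
  have hκ : ∀ j : ℤ, 0 < j →
      Subsingleton (Dual.inD A (A ⧸ IsLocalRing.maximalIdeal A) ⟶ (Q.obj I)⟦j⟧) := fun j hj =>
    (subsingleton_hom_congr_right ((shiftFunctor (Dual.D A) j).mapIso eI.symm)).1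
      (hnorm j (ne_of_gt hj))
  have hvan := ext_vanish_above I a (max a b') (le_max_left a b') hI hz' hωI.finite_cohomology 0 hκ
  have hP : PVan (Q.obj I) N := by
    refine Devissage.prop_of_bounded_homology (PVan (Q.obj I))
      (fun K hK i _ => ⟨fun f g => hK.eq_of_src f g⟩)
      (fun T hT h₁ h₃ i hi => ?_) N 0 b (fun i hi => ?_) (fun j => ?_)
    · haveI := h₁ i hi
      haveI := h₃ i hi
      refine ⟨fun f g => ?_⟩
      suffices key : ∀ f : T.obj₂ ⟶ (Q.obj I)⟦i⟧, f = 0 by rw [key f, key g]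
      intro f
      obtain ⟨k, hk⟩ := Triangle.yoneda_exact₂ T hT f (Subsingleton.elim _ _)
      rw [hk, Subsingleton.elim k 0, comp_zero]
    · rcases hi with hi | hi
      · haveI := hge i hi
        exact ModuleCat.isZero_of_subsingleton _
      · haveI := hb i hi
        exact ModuleCat.isZero_of_subsingleton _
    · intro i hi
      by_cases hj : j < 0
      · haveI := hge j hj
        have h0 : IsZero ((DerivedCategory.singleFunctor (ModuleCat.{u} A) j).obj
            ((DerivedCategory.homologyFunctor (ModuleCat.{u} A) j).obj N)) :=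
          Functor.map_isZero _ (ModuleCat.isZero_of_subsingleton _)
        exact ⟨fun f g => h0.eq_of_src f g⟩
      · haveI := hfin j
        let M := (DerivedCategory.homologyFunctor (ModuleCat.{u} A) j).obj N
        have h1 : Subsingleton (Dual.inD A M ⟶ (Q.obj I)⟦i + j⟧) := hvan (i + j) (by omega) M
        exact subsingleton_hom_of_shift j
          (((DerivedCategory.singleFunctors (ModuleCat.{u} A)).shiftIso j 0 j (by simp)).app M)
          ((shiftFunctorAdd' (Dual.D A) i j (i + j) rfl).app (Q.obj I)).symm h1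
  exact (subsingleton_hom_congr_right ((shiftFunctor (Dual.D A) i).mapIso eI)).1 (hP i hi)

end Groth.Agent.Lib.Helper25.LocDual
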