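import Groth.Agent.Lib.Helper25.LocDual.UnitLoc
import Groth.Agent.Lib.Helper85.CanonGor

/-!
# `M_p` has finite length when `p` is minimal in the support of `M`
-/

set_option autoImplicit false
universe u

namespace Groth.Agent.Lib.Helper25.LocDual

open CategoryTheory

variable {A B : Type u} [CommRing A] [CommRing B] [IsNoetherianRing A] (φ : A →+* B)

theorem ext_finiteLength_nontrivial [IsLocalRing B] [IsNoetherianRing B] (p : PrimeSpectrum A)
    (hloc : @IsLocalization A _ p.asIdeal.primeCompl B _ φ.toAlgebra)
    (M : Type u) [AddCommGroup M] [Module A M] [Module.Finite A M]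
    (hp : p ∈ Module.support A M) (hmin : ∀ p' ∈ Module.support A M, p' ≤ p → p' = p) :
    IsFiniteLength B ((ModuleCat.extendScalars.{u, u, u} φ).obj (ModuleCat.of A M)) ∧
      Nontrivial ((ModuleCat.extendScalars.{u, u, u} φ).obj (ModuleCat.of A M)) := by
  letI := φ.toAlgebra
  haveI : IsLocalization.AtPrime B p.asIdeal := hloc
  have hb : IsBaseChange B (TensorProduct.mk A B M 1) := TensorProduct.isBaseChange A M B
  haveI : IsLocalizedModule p.asIdeal.primeCompl (TensorProduct.mk A B M 1) :=
    (isLocalizedModule_iff_isBaseChange p.asIdeal.primeCompl B _).2 hb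
  have E := IsLocalizedModule.iso p.asIdeal.primeCompl (TensorProduct.mk A B M 1)
  haveI : Nontrivial (LocalizedModule p.asIdeal.primeCompl M) := Module.mem_support_iff.1 hp
  have hnt : Nontrivial (TensorProduct A B M) := E.symm.toEquiv.nontrivial
  haveI : Module.Finite B (TensorProduct A B M) := Module.Finite.base_change A B M
  -- the support of `B ⊗ M` is the closed point
  have hsupp : ∀ P ∈ Module.support B (TensorProduct A B M), P = IsLocalRing.closedPoint B := by
    intro P hP
    have hann := Module.annihilator_le_of_mem_support hP
    let p' : PrimeSpectrum A := PrimeSpectrum.comap (algebraMap A B) P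
    have hp'supp : p' ∈ Module.support A M := by
      rw [Module.mem_support_iff_of_finite]
      intro a ha
      change algebraMap A B a ∈ P.asIdeal
      apply hann
      rw [Module.mem_annihilator]
      intro z
      induction z using TensorProduct.induction_on with
      | zero => rw [smul_zero]
      | tmul b m =>
        rw [TensorProduct.smul_tmul', smul_eq_mul, ← Algebra.smul_def, TensorProduct.smul_tmul,
          Module.mem_annihilator.1 ha m, TensorProduct.tmul_zero]
      | add x y hx hy => rw [smul_add, hx, hy, add_zero]
    have hp'le : p' ≤ p := by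
      have h1 : P.asIdeal ≤ IsLocalRing.maximalIdeal B := IsLocalRing.le_maximalIdeal P.isPrime.ne_top
      have h2 := Ideal.comap_mono (f := algebraMap A B) h1
      have h5 : Ideal.comap (algebraMap A B) (IsLocalRing.maximalIdeal B) = p.asIdeal :=
        IsLocalization.AtPrime.under_maximalIdeal B p.asIdeal
      exact h2.trans (le_of_eq h5)
    have hp'eq : p' = p := hmin p' hp'supp hp'le
    apply PrimeSpectrum.ext
    change P.asIdeal = IsLocalRing.maximalIdeal B
    have h3 : Ideal.map (algebraMap A B) (Ideal.comap (algebraMap A B) P.asIdeal) = P.asIdeal :=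
      IsLocalization.map_under p.asIdeal.primeCompl B P.asIdeal
    have h4 : Ideal.comap (algebraMap A B) P.asIdeal = p.asIdeal := congrArg PrimeSpectrum.asIdeal hp'eq
    rw [← h3, h4, IsLocalization.AtPrime.map_eq_maximalIdeal p.asIdeal B]
  have hdim : Module.supportDim B (TensorProduct A B M) ≤ 0 := by
    haveI : Subsingleton (Module.support B (TensorProduct A B M)) :=
      ⟨fun x y => Subtype.ext ((hsupp x.1 x.2).trans (hsupp y.1 y.2).symm)⟩
    exact Order.krullDim_nonpos_of_subsingleton
  have hfl : IsFiniteLength B (TensorProduct A B M) :=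
    Groth.Agent.Lib.Helper85.Canon.isFiniteLength_of_supportDim_le_zero _ hdim
  exact ⟨hfl, hnt⟩

end Groth.Agent.Lib.Helper25.LocDual
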