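import Groth.Agent.Lib.Helper25.LocDual.HomLoc
import Mathlib.RingTheory.Ideal.AssociatedPrime.Finiteness
import Mathlib.RingTheory.Support

/-!
# Dévissage for the vanishing of localizations of `Hom(M, Y)`
-/

set_option autoImplicit false
universe u

namespace Groth.Agent.Lib.Helper25.LocDual

open CategoryTheory CategoryTheory.Limits CategoryTheory.Pretriangulated DerivedCategory

attribute [local instance] HasDerivedCategory.standard

variable {A : Type u} [CommRing A]

theorem locZero_of_subsingleton (S : Submonoid A) (N : Type*) [AddCommGroup N] [Module A N]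
    [Subsingleton N] : LocZero S N :=
  fun m => ⟨1, S.one_mem, Subsingleton.elim _ _⟩

/-- the short complex of modules attached to an exact pair of linear maps -/
noncomputable abbrev scOf {N₁ N₂ N₃ : Type u} [AddCommGroup N₁] [Module A N₁] [AddCommGroup N₂]
    [Module A N₂] [AddCommGroup N₃] [Module A N₃] (f : N₁ →ₗ[A] N₂) (g : N₂ →ₗ[A] N₃)
    (hfg : Function.Exact f g) : ShortComplex (ModuleCat.{u} A) :=
  ShortComplex.mk (ModuleCat.ofHom f) (ModuleCat.ofHom g) (by
    ext x
    exact hfg.apply_apply_eq_zero x)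

theorem scOf_shortExact {N₁ N₂ N₃ : Type u} [AddCommGroup N₁] [Module A N₁] [AddCommGroup N₂]
    [Module A N₂] [AddCommGroup N₃] [Module A N₃] (f : N₁ →ₗ[A] N₂) (g : N₂ →ₗ[A] N₃)
    (hf : Function.Injective f) (hg : Function.Surjective g) (hfg : Function.Exact f g) :
    (scOf f g hfg).ShortExact :=
  ModuleCat.shortComplex_shortExact _ hfg hf hg

/-- half-exactness after localization -/
theorem locZero_hom_of_exact (S : Submonoid A) (Y : Dual.D A)
    {N₁ N₂ N₃ : Type u} [AddCommGroup N₁] [Module A N₁] [AddCommGroup N₂]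
    [Module A N₂] [AddCommGroup N₃] [Module A N₃] (f : N₁ →ₗ[A] N₂) (g : N₂ →ₗ[A] N₃)
    (hf : Function.Injective f) (hg : Function.Surjective g) (hfg : Function.Exact f g)
    (h₁ : LocZero S (Dual.inD A N₁ ⟶ Y)) (h₃ : LocZero S (Dual.inD A N₃ ⟶ Y)) :
    LocZero S (Dual.inD A N₂ ⟶ Y) := by
  have hS := scOf_shortExact f g hf hg hfg
  have hT := hS.singleTriangle_distinguished
  intro m
  obtain ⟨r₁, hr₁, h1⟩ := h₁ ((DerivedCategory.singleFunctor (ModuleCat.{u} A) 0).map
    (ModuleCat.ofHom f) ≫ m)
  have h1' : (DerivedCategory.singleFunctor (ModuleCat.{u} A) 0).map (scOf f g hfg).f ≫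
      (r₁ • m) = 0 := by
    rw [Linear.comp_smul]
    exact h1
  obtain ⟨k, hk⟩ := Triangle.yoneda_exact₂ _ hT (r₁ • m) h1'
  obtain ⟨r₃, hr₃, h3⟩ := h₃ k
  refine ⟨r₃ * r₁, S.mul_mem hr₃ hr₁, ?_⟩
  rw [mul_smul, hk]
  have : r₃ • (hS.singleTriangle.mor₂ ≫ k) = hS.singleTriangle.mor₂ ≫ (r₃ • k) :=
    (Linear.comp_smul _ _ _ _ _ _).symm
  exact this.trans ((congrArg (fun t => hS.singleTriangle.mor₂ ≫ t) h3).trans comp_zero)

variable [IsNoetherianRing A]

/-- dévissage: if `M_q` has finite length and `Hom(A/q, Y)_q = 0`, then `Hom(M, Y)_q = 0` -/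
theorem locZero_hom_of_support (q : PrimeSpectrum A) (Y : Dual.D A)
    (hY : LocZero q.asIdeal.primeCompl (Dual.inD A (A ⧸ q.asIdeal) ⟶ Y))
    (M : Type u) [AddCommGroup M] [Module A M] [hfin : Module.Finite A M]
    (hM : ∀ p' ∈ Module.support A M, p' ≤ q → p' = q) :
    LocZero q.asIdeal.primeCompl (Dual.inD A M ⟶ Y) := by
  induction hfin using IsNoetherianRing.induction_on_isQuotientEquivQuotientPrime A with
  | subsingleton N =>
    have h0 : IsZero (Dual.inD A N) :=
      Functor.map_isZero (DerivedCategory.singleFunctor (ModuleCat.{u} A) 0)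
        (ModuleCat.isZero_of_subsingleton _)
    haveI : Subsingleton (Dual.inD A N ⟶ Y) := ⟨fun f g => h0.eq_of_src f g⟩
    exact locZero_of_subsingleton _ _
  | quotient N p' f =>
    have hp' : p' ∈ Module.support A N := by
      rw [Module.mem_support_iff_of_finite]
      intro r hr
      have h1 : r • f.symm 1 = 0 := Module.mem_annihilator.1 hr _
      rw [← map_smul, LinearEquiv.map_eq_zero_iff] at h1
      have h2 : (Ideal.Quotient.mk p'.asIdeal) r = 0 := by
        rw [← h1, Algebra.smul_def, mul_one]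
        rfl
      exact Ideal.Quotient.eq_zero_iff_mem.1 h2
    by_cases hpq : p' ≤ q
    · obtain rfl := hM p' hp' hpq
      exact LocZero.of_linearEquiv (Linear.homCongr A
        ((DerivedCategory.singleFunctor (ModuleCat.{u} A) 0).mapIso f.symm.toModuleIso)
        (Iso.refl Y)) hY
    · have hpq' : ¬ p'.asIdeal ≤ q.asIdeal := hpq
      obtain ⟨s, hs, hsq⟩ := SetLike.not_le_iff_exists.1 hpq'
      intro m
      refine ⟨s, hsq, ?_⟩
      have h1 : s • 𝟙 (ModuleCat.of A N) = 0 := by
        ext x
        change s • x = 0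
        apply f.injective
        rw [map_smul, map_zero]
        obtain ⟨y, hy⟩ := Ideal.Quotient.mk_surjective (f x)
        rw [← hy, Algebra.smul_def]
        have : algebraMap A (A ⧸ p'.asIdeal) s = 0 := Ideal.Quotient.eq_zero_iff_mem.2 hs
        rw [this, zero_mul]
      have h2 : s • m = (DerivedCategory.singleFunctor (ModuleCat.{u} A) 0).map
          (s • 𝟙 (ModuleCat.of A N)) ≫ m := by
        rw [Functor.map_smul, CategoryTheory.Functor.map_id, Linear.smul_comp, Category.id_comp]
      rw [h2, h1, Functor.map_zero, zero_comp]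
  | exact N₁ N₂ N₃ f g hf hg hfg h₁ h₃ =>
    exact locZero_hom_of_exact _ Y f g hf hg hfg
      (h₁ (fun p' hp' => hM p' (Module.support_subset_of_injective f hf hp')))
      (h₃ (fun p' hp' => hM p' (Module.support_subset_of_surjective g hg hp')))

end Groth.Agent.Lib.Helper25.LocDual
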