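import Groth.Agent.Lib.Helper25.LocDual.FinLen
import Groth.Agent.Lib.Helper25.LocDual.DimFunB

/-!
# Non-vanishing of `Hom(N, Y[1])` for a nonzero finite length module `N`
-/

set_option autoImplicit false
universe u

namespace Groth.Agent.Lib.Helper25.LocDual

open CategoryTheory CategoryTheory.Limits CategoryTheory.Pretriangulated DerivedCategory

attribute [local instance] HasDerivedCategory.standard

variable {B : Type u} [CommRing B]

theorem nontrivial_hom_of_isFiniteLength [IsLocalRing B] (Y : Dual.D B)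
    (hprev : Subsingleton (Dual.inD B (B ⧸ IsLocalRing.maximalIdeal B) ⟶ Y))
    (hnt : Nontrivial (Dual.inD B (B ⧸ IsLocalRing.maximalIdeal B) ⟶ Y⟦(1 : ℤ)⟧))
    (N : Type u) [AddCommGroup N] [Module B N] [hN' : Nontrivial N] (hN : IsFiniteLength B N) :
    Nontrivial (Dual.inD B N ⟶ Y⟦(1 : ℤ)⟧) := by
  cases hN with
  | of_subsingleton => exact absurd hN' (not_nontrivial N)
  | @of_simple_quotient _ _ _ K hs hK =>
    obtain ⟨I, hI, ⟨e⟩⟩ := isSimpleModule_iff_quot_maximal.mp hs
    have hIm := IsLocalRing.eq_maximalIdeal hI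
    subst hIm
    have hK0 : Subsingleton (Dual.inD B K ⟶ Y) := subsingleton_hom_of_isFiniteLength Y hprev K hK
    have hS := scOf_shortExact K.subtype K.mkQ (Submodule.injective_subtype K)
      (Submodule.mkQ_surjective K) (LinearMap.exact_subtype_mkQ K)
    have hT := hS.singleTriangle_distinguished
    obtain ⟨h₀, hh₀⟩ := exists_ne (0 : Dual.inD B (B ⧸ IsLocalRing.maximalIdeal B) ⟶ Y⟦(1 : ℤ)⟧)
    let ι : Dual.inD B (N ⧸ K) ≅ Dual.inD B (B ⧸ IsLocalRing.maximalIdeal B) :=
      (DerivedCategory.singleFunctor (ModuleCat.{u} B) 0).mapIso e.toModuleIso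
    let h : Dual.inD B (N ⧸ K) ⟶ Y⟦(1 : ℤ)⟧ := ι.hom ≫ h₀
    have hh : h ≠ 0 := by
      intro h0
      apply hh₀
      rw [← cancel_epi ι.hom, comp_zero]
      exact h0
    refine ⟨⟨(DerivedCategory.singleFunctor (ModuleCat.{u} B) 0).map (ModuleCat.ofHom K.mkQ) ≫ h,
      0, fun h0 => hh ?_⟩⟩
    obtain ⟨g', hg'⟩ := Triangle.yoneda_exact₃ _ hT h h0
    obtain ⟨g'', rfl⟩ := (shiftFunctor (Dual.D B) (1 : ℤ)).map_surjective
      (X := Dual.inD B K) (Y := Y) g'
    have : g'' = 0 := hK0.elim _ _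
    rw [hg', this, Functor.map_zero]
    exact comp_zero

end Groth.Agent.Lib.Helper25.LocDual
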