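import Groth.Agent.Lib.Helper25.LocDual.DimFunLocal
import Groth.Agent.Lib.Helper25.LocDual.ExtFinLen
import Groth.Agent.Lib.Helper25.LocDual.FinLenNZ

/-!
# `Ext^{-d}(M, ω) ≠ 0` for a normalized dualizing complex and `d = dim M`
-/

set_option autoImplicit false
universe u

namespace Groth.Agent.Lib.Helper25.LocDual

open CategoryTheory CategoryTheory.Limits CategoryTheory.Pretriangulated DerivedCategory
open Groth.Agent.Lib.Helper84 Groth.Agent.Lib.Helper25.Bidual

attribute [local instance] HasDerivedCategory.standard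

theorem coheight_subtype_of_isUpperSet {α : Type*} [Preorder α] (U : Set α) (hU : IsUpperSet U)
    (x : U) : Order.coheight x = Order.coheight (x : α) := by
  apply le_antisymm
  · exact Order.coheight_le_coheight_apply_of_strictMono (fun y : U => (y : α))
      (fun _ _ h => h) x
  · apply Order.coheight_le
    intro s hs
    let s' : LTSeries U :=
      { length := s.length
        toFun := fun i => ⟨s i, hU (by rw [← hs]; exact LTSeries.head_le s i) x.2⟩
        step := fun i => s.step i }
    have h1 : x ≤ s'.head := by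
      change (x : α) ≤ s 0
      exact le_of_eq hs.symm
    exact Order.length_le_coheight h1

variable {A : Type u} [CommRing A] [IsNoetherianRing A]

theorem isUpperSet_support (M : Type*) [AddCommGroup M] [Module A M] :
    IsUpperSet (Module.support A M) := fun _ _ h hp => Module.mem_support_mono h hp

theorem exists_mem_support_coheight_eq (M : Type u) [AddCommGroup M] [Module A M]
    [Nontrivial M] (d : ℕ) (hd : Module.supportDim A M = d) :
    ∃ p ∈ Module.support A M, Order.coheight p = (d : ℕ∞) ∧
      ∀ p' ∈ Module.support A M, p' ≤ p → p' = p := by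
  haveI : Nonempty (Module.support A M) := by
    have := (Module.support_eq_empty_iff (R := A) (M := M)).not.2 (not_subsingleton M)
    exact Set.nonempty_coe_sort.2 (Set.nonempty_iff_ne_empty.2 this)
  have h1 : Order.krullDim (Module.support A M) = (d : WithBot ℕ∞) := hd
  rw [Order.krullDim_eq_iSup_coheight_of_nonempty] at h1
  have h2 : (⨆ a : Module.support A M, Order.coheight a) = (d : ℕ∞) := by exact_mod_cast h1
  have h3 : (⨆ a : Module.support A M, Order.coheight a) < ⊤ := by
    rw [h2]; exact ENat.natCast_lt_top _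
  obtain ⟨a, ha⟩ := ENat.exists_eq_iSup_of_lt_top h3
  rw [h2] at ha
  have hU := isUpperSet_support (A := A) M
  refine ⟨a.1, a.2, ?_, fun p' hp' hle => ?_⟩
  · rw [← coheight_subtype_of_isUpperSet _ hU a, ha]
  · by_contra hne
    have hlt : p' < a.1 := lt_of_le_of_ne hle hne
    have h4 : Order.coheight (a : PrimeSpectrum A) + 1 ≤ Order.coheight p' :=
      Order.coheight_add_one_le hlt
    have h5 : Order.coheight p' ≤ (d : ℕ∞) := by
      rw [← coheight_subtype_of_isUpperSet _ hU ⟨p', hp'⟩, ← h2]
      exact le_iSup (fun a : Module.support A M => Order.coheight a) ⟨p', hp'⟩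
    rw [← coheight_subtype_of_isUpperSet _ hU a, ha] at h4
    have h6 : ((d + 1 : ℕ) : ℕ∞) ≤ (d : ℕ∞) := by
      push_cast
      exact le_trans h4 h5
    have h7 : d + 1 ≤ d := by exact_mod_cast h6
    omega

/-- S19859 -/
theorem nontrivial_ext_neg_dim [IsLocalRing A] (ω : Dual.D A) (hω : Dual.IsDualizing A ω)
    (hnorm : Dual.IsNormalized A ω) (M : Type u) [AddCommGroup M] [Module A M] [Module.Finite A M]
    [Nontrivial M] (d : ℕ) (hd : Module.supportDim A M = d) :
    Nontrivial (Dual.inD A M ⟶ ω⟦(-(d : ℤ))⟧) := by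
  obtain ⟨p, hp, hco, hmin⟩ := exists_mem_support_coheight_eq M d hd
  obtain ⟨I, a, b, hI, hz, ⟨eI⟩⟩ := exists_bounded_injective_model ω hω
  have hz' : ∀ i, (i < a ∨ max a b < i) → IsZero (I.X i) := fun i hi => by
    rcases hi with hi | hi
    · exact hz i (Or.inl hi)
    · exact hz i (Or.inr (lt_of_le_of_lt (le_max_right a b) hi))
  have hωI := isDualizing_of_iso eI.symm hω
  obtain ⟨n, hn, hcov⟩ := dimFun_model I a (max a b) (le_max_left a b) hI hz' hωI
  have h0 : n (IsLocalRing.closedPoint A) = 0 := by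
    by_contra hne
    have hs : Subsingleton (Dual.inD A (IsLocalRing.ResidueField A) ⟶
        (Q.obj I)⟦n (IsLocalRing.closedPoint A)⟧) :=
      (subsingleton_hom_congr_right ((shiftFunctor (Dual.D A) _).mapIso eI.symm)).1
        (hnorm _ hne)
    have hl : LocZero (IsLocalRing.closedPoint A).asIdeal.primeCompl
        (Dual.inD A (A ⧸ (IsLocalRing.closedPoint A).asIdeal) ⟶
          (Q.obj I)⟦n (IsLocalRing.closedPoint A)⟧) :=
      @locZero_of_subsingleton _ _ _ _ _ _ hs
    exact (hn _ _).1 hl rfl
  have hnp : n p = -(d : ℤ) := eq_neg_coheight n hcov h0 d p hco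
  let S := p.asIdeal.primeCompl
  let B := Localization.AtPrime p.asIdeal
  let φ : A →+* B := algebraMap A B
  have hloc : @IsLocalization A _ S B _ φ.toAlgebra := by
    have h : φ.toAlgebra = (inferInstance : Algebra A B) :=
      Algebra.algebra_ext _ _ (fun _ => rfl)
    rw [h]
    infer_instance
  have hB : Dual.IsDualizing B (Q.obj ((DTen.extCx φ).obj I)) :=
    isDualizing_ext φ S hloc I a (max a b) (le_max_left a b) hI hz' hωI
  haveI : IsNoetherianRing B := hB.isNoetherianRing
  obtain ⟨hfl, hnt⟩ := ext_finiteLength_nontrivial φ p hloc M hp hmin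
  -- the `B`-side
  let Y : Dual.D B := (Q.obj (JJ φ I))⟦n p - 1⟧
  have hprev : Subsingleton (Dual.inD B (B ⧸ IsLocalRing.maximalIdeal B) ⟶ Y) :=
    (locZero_hom_quot_prime_iff φ p.asIdeal hloc I a (max a b) hI hz' (n p - 1)).1
      ((hn p (n p - 1)).2 (by omega))
  let σ : Y⟦(1 : ℤ)⟧ ≅ (Q.obj (JJ φ I))⟦n p⟧ :=
    ((shiftFunctorAdd' (Dual.D B) (n p - 1) 1 (n p) (by omega)).app (Q.obj (JJ φ I))).symm
  have hnt' : Nontrivial (Dual.inD B (B ⧸ IsLocalRing.maximalIdeal B) ⟶ Y⟦(1 : ℤ)⟧) := by
    rw [← not_subsingleton_iff_nontrivial, subsingleton_hom_congr_right σ,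
      ← locZero_hom_quot_prime_iff φ p.asIdeal hloc I a (max a b) hI hz' (n p), hn p (n p)]
    exact fun h => h rfl
  haveI := hnt
  have hN := nontrivial_hom_of_isFiniteLength Y hprev hnt' _ hfl
  rw [← not_subsingleton_iff_nontrivial, subsingleton_hom_congr_right σ] at hN
  rw [← locZero_hom_single_iff φ S hloc I a (max a b) hI hz' (ModuleCat.of A M) (n p), hnp] at hN
  rw [← not_subsingleton_iff_nontrivial]
  intro hsub
  apply hN
  haveI : Subsingleton (Dual.inD A M ⟶ (Q.obj I)⟦(-(d : ℤ))⟧) :=
    (subsingleton_hom_congr_right ((shiftFunctor (Dual.D A) _).mapIso eI.symm)).1 hsub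
  exact locZero_of_subsingleton _ _

end Groth.Agent.Lib.Helper25.LocDual
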