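import Groth.Agent.Lib.Helper25.LocDual.DepthExt
import Groth.Agent.Lib.Helper25.Bidual.Main

/-!
# Depth via `Ext(M, ω)` for a normalized dualizing complex: main statement (S0367)
-/

set_option autoImplicit false
universe u

namespace Groth.Agent.Lib.Helper25.LocDual

open CategoryTheory CategoryTheory.Limits CategoryTheory.Pretriangulated DerivedCategory
open Groth.Agent.Lib.Helper84 Groth.Agent.Lib.Helper25.Bidual

attribute [local instance] HasDerivedCategory.standard

variable {A : Type u} [CommRing A] [IsLocalRing A] [IsNoetherianRing A]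

/-- for a normalized dualizing complex, `Hom(κ, ω) ≠ 0` -/
theorem nontrivial_hom_residue_of_normalized (ω : Dual.D A) (hω : Dual.IsDualizing A ω)
    (hnorm : Dual.IsNormalized A ω) :
    Nontrivial (Dual.inD A (A ⧸ IsLocalRing.maximalIdeal A) ⟶ ω⟦(0 : ℤ)⟧) := by
  obtain ⟨n', -, ⟨en⟩⟩ := residue_main (IsLocalRing.maximalIdeal A) ω hω
  haveI : Nontrivial (A ⧸ IsLocalRing.maximalIdeal A) :=
    Ideal.Quotient.nontrivial_iff.2 (IsLocalRing.maximalIdeal.isMaximal A).ne_top
  have hn' : n' = 0 := by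
    by_contra hne
    haveI : Subsingleton (Dual.inD A (A ⧸ IsLocalRing.maximalIdeal A) ⟶ ω⟦n'⟧) := hnorm n' hne
    haveI : Subsingleton (A ⧸ IsLocalRing.maximalIdeal A) := en.symm.toEquiv.subsingleton
    exact not_subsingleton (A ⧸ IsLocalRing.maximalIdeal A) inferInstance
  subst hn'
  exact en.toEquiv.nontrivial

/-- the characterization for `ω` -/
theorem depth_char_omega (ω : Dual.D A) (hω : Dual.IsDualizing A ω)
    (hnorm : Dual.IsNormalized A ω) (t : ℕ) (M : Type u) [AddCommGroup M] [Module A M]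
    [Module.Finite A M] [Nontrivial M] (hdepth : LocCoh.depth A M = t) :
    (∀ δ : ℕ, δ < t → Subsingleton (Dual.inD A M ⟶ ω⟦(-(δ : ℤ))⟧)) ∧
      Nontrivial (Dual.inD A M ⟶ ω⟦(-(t : ℤ))⟧) := by
  obtain ⟨I, a, b, hI, hz, ⟨eI⟩⟩ := exists_bounded_injective_model ω hω
  have hz' : ∀ i, (i < a ∨ max a b < i) → IsZero (I.X i) := fun i hi => by
    rcases hi with hi | hi
    · exact hz i (Or.inl hi)
    · exact hz i (Or.inr (lt_of_le_of_lt (le_max_right a b) hi))
  have hωI := isDualizing_of_iso eI.symm hω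
  have hκ : ∀ j : ℤ, 0 < j →
      Subsingleton (Dual.inD A (A ⧸ IsLocalRing.maximalIdeal A) ⟶ (Q.obj I)⟦j⟧) := fun j hj =>
    (subsingleton_hom_congr_right ((shiftFunctor (Dual.D A) j).mapIso eI.symm)).1
      (hnorm j (ne_of_gt hj))
  have hκ0 : Nontrivial (Dual.inD A (A ⧸ IsLocalRing.maximalIdeal A) ⟶ (Q.obj I)⟦(0 : ℤ)⟧) :=
    (nontrivial_hom_congr_right ((shiftFunctor (Dual.D A) 0).mapIso eI.symm)).1
      (nontrivial_hom_residue_of_normalized ω hω hnorm)
  obtain ⟨h1, h2⟩ := depth_char I a (max a b) (le_max_left a b) hI hz' hωI.finite_cohomology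
    hκ hκ0 t M hdepth
  exact ⟨fun δ hδ => (subsingleton_hom_congr_right
      ((shiftFunctor (Dual.D A) _).mapIso eI)).1 (h1 δ hδ),
    (nontrivial_hom_congr_right ((shiftFunctor (Dual.D A) _).mapIso eI)).1 h2⟩

/-- S0367 -/
theorem depth_eq_iff (ω : Dual.D A) (hω : Dual.IsDualizing A ω)
    (hnorm : Dual.IsNormalized A ω) (M : Type u) [AddCommGroup M] [Module A M]
    [Module.Finite A M] [Nontrivial M] (n : ℕ) :
    LocCoh.depth A M = n ↔
      ((∀ δ : ℕ, δ < n → Subsingleton (Dual.inD A M ⟶ ω⟦(-(δ : ℤ))⟧)) ∧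
        Nontrivial (Dual.inD A M ⟶ ω⟦(-(n : ℤ))⟧)) := by
  constructor
  · exact fun h => depth_char_omega ω hω hnorm n M h
  · rintro ⟨h1, h2⟩
    have hne : LocCoh.depth A M ≠ ⊤ := Groth.Agent.Lib.Helper67.depth_ne_top (R := A) (M := M)
    obtain ⟨t, ht⟩ := ENat.ne_top_iff_exists.1 hne
    obtain ⟨g1, g2⟩ := depth_char_omega ω hω hnorm t M ht.symm
    rw [← ht]
    congr 1
    rcases lt_trichotomy t n with hlt | heq | hgt
    · haveI := h1 t hlt
      exact absurd g2 (not_nontrivial _)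
    · exact heq
    · haveI := g1 n hgt
      exact absurd h2 (not_nontrivial _)

end Groth.Agent.Lib.Helper25.LocDual
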