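import Groth.Agent.Lib.Helper25.LocDual.DimFun
import Mathlib.RingTheory.Ideal.KrullsHeightTheorem

/-!
# A Noetherian ring with a dualizing complex has finite Krull dimension
-/

set_option autoImplicit false
universe u

namespace Groth.Agent.Lib.Helper25.LocDual

open CategoryTheory CategoryTheory.Limits CategoryTheory.Pretriangulated DerivedCategory
open Groth.Agent.Lib.Helper84 Groth.Agent.Lib.Helper25.Bidual

attribute [local instance] HasDerivedCategory.standard

variable {A : Type u} [CommRing A] [IsNoetherianRing A]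

instance : WellFoundedGT (PrimeSpectrum A) :=
  StrictMono.wellFoundedGT (f := fun p : PrimeSpectrum A => p.asIdeal) (fun _ _ h => h)

/-- below a prime `q` and above `p < q` there is a prime covered by `q` -/
theorem exists_covBy_of_lt (p q : PrimeSpectrum A) (hpq : p < q) :
    ∃ c : PrimeSpectrum A, p ≤ c ∧ c ⋖ q := by
  let T : Set (PrimeSpectrum A) := {c | p ≤ c ∧ c < q}
  have hT : T.Nonempty := ⟨p, le_refl p, hpq⟩
  obtain ⟨c, hc, hmax⟩ := WellFounded.has_min (wellFounded_gt (α := PrimeSpectrum A)) T hT
  refine ⟨c, hc.1, hc.2, fun c' hcc' hc'q => ?_⟩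
  exact hmax c' ⟨le_trans hc.1 hcc'.le, hc'q⟩ hcc'

/-- a function increasing by one along covers is strictly monotone -/
theorem strictMono_of_covBy (n : PrimeSpectrum A → ℤ)
    (hcov : ∀ p q : PrimeSpectrum A, p ⋖ q → n q = n p + 1) : StrictMono n := by
  have key : ∀ (k : ℕ) (q : PrimeSpectrum A), Order.height q ≤ k →
      ∀ p : PrimeSpectrum A, p < q → n p < n q := by
    intro k
    induction k with
    | zero =>
      intro q hq p hpq
      rw [Nat.cast_zero, nonpos_iff_eq_zero, Order.height_eq_zero] at hq
      exact absurd hpq (hq.not_lt)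
    | succ k ih =>
      intro q hq p hpq
      obtain ⟨c, hpc, hcq⟩ := exists_covBy_of_lt p q hpq
      have h1 := hcov c q hcq
      have h2 : Order.height c ≤ k := by
        have h3 := Order.height_add_one_le hcq.lt
        have h4 : Order.height c + 1 ≤ ((k : ℕ∞) + 1) := by
          refine le_trans h3 (le_trans hq ?_)
          push_cast
          exact le_refl _
        exact (ENat.add_le_add_iff_right (by simp)).1 h4
      rcases eq_or_lt_of_le hpc with heq | hlt
      · rw [heq, h1]
        omega
      · have := ih c h2 p hlt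
        omega
  intro p q hpq
  have hfin : Order.height q < ⊤ := by
    rw [← PrimeSpectrum.height_eq_orderHeight]
    exact Ideal.height_lt_top q.isPrime.ne_top
  obtain ⟨k, hk⟩ := ENat.ne_top_iff_exists.1 hfin.ne
  exact key k q (le_of_eq hk.symm) p hpq

/-- S0371 -/
theorem ringKrullDim_lt_top_of_dualizing (ω : Dual.D A) (hω : Dual.IsDualizing A ω) :
    ringKrullDim A < ⊤ := by
  obtain ⟨I, a, b, hI, hz, ⟨eI⟩⟩ := exists_bounded_injective_model ω hω
  have hz' : ∀ i, (i < a ∨ max a b < i) → IsZero (I.X i) := fun i hi => by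
    rcases hi with hi | hi
    · exact hz i (Or.inl hi)
    · exact hz i (Or.inr (lt_of_le_of_lt (le_max_right a b) hi))
  have hωI := isDualizing_of_iso eI.symm hω
  obtain ⟨n, hn, hcov⟩ := dimFun_model I a (max a b) (le_max_left a b) hI hz' hωI
  have hmono := strictMono_of_covBy n hcov
  -- the values of `n` are bounded
  have hbd : ∀ p : PrimeSpectrum A, a ≤ n p ∧ n p ≤ max a b := by
    intro p
    by_contra hcon
    have hout : n p < a ∨ max a b < n p := by
      by_contra h
      push Not at h
      exact hcon ⟨h.1, h.2⟩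
    have h0 := (Groth.Agent.S12537.result (ModuleCat.{u} A) (Q.obj I) a (max a b)
      (le_max_left a b)).2 ⟨I, hI, hz', ⟨Iso.refl _⟩⟩ (ModuleCat.of A (A ⧸ p.asIdeal)) (n p) hout
    haveI : Subsingleton (Dual.inD A (A ⧸ p.asIdeal) ⟶ (Q.obj I)⟦n p⟧) :=
      ⟨fun f g => by rw [h0 f, h0 g]⟩
    exact (hn p (n p)).1 (locZero_of_subsingleton _ _) rfl
  -- bound the length of chains
  have hlen : ∀ s : LTSeries (PrimeSpectrum A), (s.length : ℤ) ≤ max a b - a := by
    intro s
    have hstep : ∀ (i : ℕ) (hi : i < s.length + 1), n (s ⟨0, by omega⟩) + i ≤ n (s ⟨i, hi⟩) := by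
      intro i
      induction i with
      | zero => intro hi; simp
      | succ i ih =>
        intro hi
        have h1 := ih (by omega)
        have h2 : s ⟨i, by omega⟩ < s ⟨i + 1, hi⟩ := s.step ⟨i, by omega⟩
        have h3 := hmono h2
        push_cast
        omega
    have h1 := hstep s.length (by omega)
    have h2 := (hbd (s ⟨0, by omega⟩)).1
    have h3 := (hbd (s ⟨s.length, by omega⟩)).2
    omega
  have hle : ringKrullDim A ≤ ((max a b - a).toNat : WithBot ℕ∞) := by
    refine iSup_le (fun s => ?_)
    have h1 := hlen s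
    have h2 : s.length ≤ (max a b - a).toNat := by omega
    exact_mod_cast h2
  have hlt : (((max a b - a).toNat : ℕ∞) : WithBot ℕ∞) < ((⊤ : ℕ∞) : WithBot ℕ∞) :=
    WithBot.coe_lt_coe.2 (ENat.natCast_lt_top _)
  exact lt_of_le_of_lt hle hlt

end Groth.Agent.Lib.Helper25.LocDual
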