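import Groth.Agent.Lib.Helper25.LocDual.FinLen
import Groth.Agent.Lib.Helper25.WayOutCx
import Groth.Agent.Lib.Helper25.Bidual.Residue

/-!
# A dualizing complex over an Artinian local ring has exactly one nonzero cohomology module
-/

set_option autoImplicit false
universe u

namespace Groth.Agent.Lib.Helper25.LocDual

open CategoryTheory CategoryTheory.Limits CategoryTheory.Pretriangulated DerivedCategory
open Groth.Agent.Lib.Helper25.WayOutCx

attribute [local instance] HasDerivedCategory.standard

variable {B : Type u} [CommRing B]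

/-- `B ≅ (B[-i])[i]` in `D(B)` -/
noncomputable def inDShiftIso (i : ℤ) : Dual.inD B B ≅ (Q.obj (sglA B i))⟦i⟧ :=
  (((DerivedCategory.singleFunctors (ModuleCat.{u} B)).shiftIso i 0 i (by simp)).app
      (ModuleCat.of B B)).symm ≪≫
    (shiftFunctor (Dual.D B) i).mapIso
      ((DerivedCategory.singleFunctorIsoCompQ (ModuleCat.{u} B) i).app (ModuleCat.of B B))

theorem isZero_HD_of_subsingleton (X : Dual.D B) (i : ℤ)
    (h : Subsingleton (Dual.inD B B ⟶ X⟦i⟧)) :
    IsZero ((DerivedCategory.homologyFunctor (ModuleCat.{u} B) i).obj X) := by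
  apply isZero_homology_of_subsingleton
  refine ⟨fun f g => ?_⟩
  apply (shiftFunctor (Dual.D B) i).map_injective
  rw [← cancel_epi (inDShiftIso (B := B) i).hom]
  exact h.elim _ _

theorem isZero_of_forall_isZero_homology (X : Dual.D B)
    (hX : ∀ i : ℤ, IsZero ((DerivedCategory.homologyFunctor (ModuleCat.{u} B) i).obj X)) :
    IsZero X := by
  have h1 : X.IsLE 0 := (isLE_iff X 0).2 (fun i _ => hX i)
  have h2 : X.IsGE 1 := (isGE_iff X 1).2 (fun i _ => hX i)
  exact DerivedCategory.TStructure.t.isZero X 0 1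

/-- over an Artinian local ring, the cohomology of a dualizing complex lives in the single degree
`d` in which `Hom(κ, ω[d]) ≠ 0` -/
theorem nontrivial_HD_iff_of_artinian [IsLocalRing B] [IsArtinianRing B] (ω : Dual.D B)
    (hω : Dual.IsDualizing B ω) (d : ℤ)
    (hd : ∀ i : ℤ, i ≠ d →
      Subsingleton (Dual.inD B (B ⧸ IsLocalRing.maximalIdeal B) ⟶ ω⟦i⟧)) (i : ℤ) :
    Nontrivial (Dual.HD B ω i) ↔ i = d := by
  have hB : IsFiniteLength B B := (isArtinianRing_iff_isFiniteLength B).1 inferInstance
  have hz : ∀ i : ℤ, i ≠ d →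
      IsZero ((DerivedCategory.homologyFunctor (ModuleCat.{u} B) i).obj ω) := fun i hi =>
    isZero_HD_of_subsingleton ω i
      (subsingleton_hom_of_isFiniteLength (ω⟦i⟧) (hd i hi) B hB)
  constructor
  · intro hi
    by_contra hne
    haveI : Nontrivial ((DerivedCategory.homologyFunctor (ModuleCat.{u} B) i).obj ω) := hi
    exact not_subsingleton _ (ModuleCat.subsingleton_of_isZero (hz i hne))
  · rintro rfl
    by_contra hnt
    rw [not_nontrivial_iff_subsingleton] at hnt
    have hz' : ∀ j : ℤ, IsZero ((DerivedCategory.homologyFunctor (ModuleCat.{u} B) j).obj ω) := by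
      intro j
      by_cases hj : j = i
      · subst hj
        exact ModuleCat.isZero_of_subsingleton _
      · exact hz j hj
    have h0 : IsZero ω := isZero_of_forall_isZero_homology ω hz'
    have h1 : (1 : B) • 𝟙 ω = (0 : B) • 𝟙 ω := h0.eq_of_src _ _
    exact one_ne_zero (hω.toEnd_bijective.1 h1)

theorem existsUnique_nontrivial_HD [IsLocalRing B] [IsArtinianRing B] (ω : Dual.D B)
    (hω : Dual.IsDualizing B ω) : ∃! d : ℤ, Nontrivial (Dual.HD B ω d) := by
  obtain ⟨d, hd, -⟩ := Groth.Agent.Lib.Helper25.Bidual.residue_main (IsLocalRing.maximalIdeal B) ω hω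
  exact ⟨d, (nontrivial_HD_iff_of_artinian ω hω d hd d).2 rfl,
    fun i hi => (nontrivial_HD_iff_of_artinian ω hω d hd i).1 hi⟩

end Groth.Agent.Lib.Helper25.LocDual
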