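import Groth.Agent.Lib.Helper25.LocDual.Main
import Groth.Agent.Lib.Helper25.LocDual.ArtLocal

/-!
# The cohomology of a dualizing complex at a minimal prime lives in a single degree
-/

set_option autoImplicit false
universe u

namespace Groth.Agent.Lib.Helper25.LocDual

open CategoryTheory CategoryTheory.Limits CategoryTheory.Pretriangulated DerivedCategory
open Groth.Agent.Lib.Helper84 Groth.Agent.Lib.Helper25.Bidual

attribute [local instance] HasDerivedCategory.standard

variable {A B : Type u} [CommRing A] [CommRing B] (φ : A →+* B) (S : Submonoid A)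

/-- localization of cohomology = cohomology of the extension of scalars -/
theorem nontrivial_localizedModule_iff (hloc : @IsLocalization A _ S B _ φ.toAlgebra)
    (ω : Dual.D A) (I : DRing.Cx A) (e : Q.obj I ≅ ω) (i : ℤ) :
    Nontrivial (LocalizedModule S (Dual.HD A ω i)) ↔
      Nontrivial (Dual.HD B (Q.obj ((DTen.extCx φ).obj I)) i) := by
  have hflat : φ.Flat := flat_of_isLocalization φ S hloc
  haveI : PreservesFiniteLimits (FlatBC.ext φ) := FlatBC.preservesFiniteLimits_ext φ hflat
  haveI : PreservesFiniteColimits (FlatBC.ext φ) :=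
    haveI : (FlatBC.ext φ).IsLeftAdjoint :=
      (ModuleCat.extendRestrictScalarsAdj φ).isLeftAdjoint
    inferInstance
  have e1 : (DerivedCategory.homologyFunctor (ModuleCat.{u} A) i).obj ω ≅ I.homology i :=
    (DerivedCategory.homologyFunctor (ModuleCat.{u} A) i).mapIso e.symm ≪≫
      (DerivedCategory.homologyFunctorFactors (ModuleCat.{u} A) i).app I
  have e2 : (DerivedCategory.homologyFunctor (ModuleCat.{u} B) i).obj
      (Q.obj ((DTen.extCx φ).obj I)) ≅ (FlatBC.ext φ).obj (I.homology i) :=
    (DerivedCategory.homologyFunctorFactors (ModuleCat.{u} B) i).app _ ≪≫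
      (I.sc i).mapHomologyIso (FlatBC.ext φ)
  let u := ((ModuleCat.extendRestrictScalarsAdj.{u, u, u} φ).unit.app (I.homology i)).hom
  haveI : IsLocalizedModule S u := isLocalizedModule_unit φ S hloc (I.homology i)
  let f := u ∘ₗ e1.toLinearEquiv.toLinearMap
  haveI : IsLocalizedModule S f := IsLocalizedModule.of_linearEquiv_right S u e1.toLinearEquiv
  have E := IsLocalizedModule.iso S f
  constructor
  · intro h
    haveI : Nontrivial ((FlatBC.ext φ).obj (I.homology i)) := E.symm.toEquiv.nontrivial
    exact e2.toLinearEquiv.toEquiv.nontrivial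
  · intro h
    haveI : Nontrivial ((FlatBC.ext φ).obj (I.homology i)) :=
      e2.symm.toLinearEquiv.toEquiv.nontrivial
    exact @Equiv.nontrivial _ _ E.toEquiv this

theorem main_minPrime [IsNoetherianRing A] (ω : Dual.D A) (hω : Dual.IsDualizing A ω)
    (p : Ideal A) (hp : p ∈ minimalPrimes A) :
    ∃! i : ℤ, Nontrivial (LocalizedModule (Ideal.primeCompl p (hp := hp.1.1))
      (Dual.HD A ω i)) := by
  haveI : p.IsPrime := hp.1.1
  let S := p.primeCompl
  let B := Localization.AtPrime p
  let φ : A →+* B := algebraMap A B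
  have hloc : @IsLocalization A _ S B _ φ.toAlgebra := by
    have h : φ.toAlgebra = (inferInstance : Algebra A B) :=
      Algebra.algebra_ext _ _ (fun _ => rfl)
    rw [h]
    infer_instance
  obtain ⟨I, a, b, hI, hz, ⟨e⟩⟩ := exists_bounded_injective_model ω hω
  have hz' : ∀ i, (i < a ∨ max a b < i) → IsZero (I.X i) := fun i hi => by
    rcases hi with hi | hi
    · exact hz i (Or.inl hi)
    · exact hz i (Or.inr (lt_of_le_of_lt (le_max_right a b) hi))
  have hB : Dual.IsDualizing B (Q.obj ((DTen.extCx φ).obj I)) :=
    isDualizing_ext φ S hloc I a (max a b) (le_max_left a b) hI hz'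
      (isDualizing_of_iso e.symm hω)
  haveI : IsNoetherianRing B := hB.isNoetherianRing
  haveI : Ring.KrullDimLE 0 B := Ring.KrullDimLE.of_isLocalization p hp B
  haveI : IsArtinianRing B := isArtinianRing_iff_krullDimLE_zero.2 inferInstance
  obtain ⟨d, hd, hd'⟩ := existsUnique_nontrivial_HD _ hB
  refine ⟨d, (nontrivial_localizedModule_iff φ S hloc ω I e d).2 hd, fun i hi => ?_⟩
  exact hd' i ((nontrivial_localizedModule_iff φ S hloc ω I e i).1 hi)

end Groth.Agent.Lib.Helper25.LocDual
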