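import Groth.Agent.Lib.Helper25.LocDual.DualShift
import Groth.Agent.Lib.Helper25.LocDual.DepthExtMain
import Groth.Agent.Lib.Helper25.LocDual.ExtNonvanish
import Groth.Agent.Lib.Helper25.LocDual.DimFin
import Groth.Agent.Lib.Helper25.Bidual.Residue
import Groth.Agent.Lib.Helper39.Dual.HDSelf

/-!
# A Noetherian local ring with a dualizing module is Cohen–Macaulay
-/

set_option autoImplicit false
universe u

namespace Groth.Agent.Lib.Helper25.LocDual

open CategoryTheory CategoryTheory.Limits CategoryTheory.Pretriangulated DerivedCategory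
open Groth.Agent.Lib.Helper25.Bidual

attribute [local instance] HasDerivedCategory.standard

section

variable {B : Type u} [CommRing B]

/-- `Hom(B, V[k]) = 0` iff `k ≠ 0`, for a nonzero module `V` -/
theorem subsingleton_hom_self_single_iff (V : Type u) [AddCommGroup V] [Module B V]
    [Nontrivial V] (k : ℤ) :
    Subsingleton (Dual.inD B B ⟶ (Dual.inD B V)⟦k⟧) ↔ k ≠ 0 := by
  rw [Groth.Agent.Lib.Helper39.Dual.subsingleton_hom_inD_self_iff]
  constructor
  · intro h hk
    subst hk
    let e := ((singleFunctorCompHomologyFunctorIso (ModuleCat.{u} B) 0).app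
      (ModuleCat.of B V)).toLinearEquiv
    have h0 : Subsingleton ((singleFunctor (ModuleCat.{u} B) 0 ⋙
        homologyFunctor (ModuleCat.{u} B) 0).obj (ModuleCat.of B V)) := h
    have : Subsingleton ((𝟭 (ModuleCat.{u} B)).obj (ModuleCat.of B V)) :=
      e.symm.toEquiv.subsingleton
    have h' : Subsingleton V := this
    exact not_subsingleton V h'
  · intro hk
    have hz : Limits.IsZero ((homologyFunctor (ModuleCat.{u} B) k).obj (Dual.inD B V)) := by
      rcases lt_or_gt_of_ne hk with h | h
      · exact isZero_of_isGE _ 0 k h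
      · exact isZero_of_isLE _ 0 k h
    exact ModuleCat.subsingleton_of_isZero hz

end

variable {B : Type u} [CommRing B] [IsLocalRing B] [IsNoetherianRing B]

/-- a Noetherian local ring with a dualizing module is Cohen–Macaulay -/
theorem supportDim_eq_depth_of_dualizing_module (V : Type u) [AddCommGroup V] [Module B V]
    [Module.Finite B V] (h : Dual.IsDualizing B (Dual.inD B V)) :
    Module.supportDim B B = ((LocCoh.depth B B : ℕ∞) : WithBot ℕ∞) := by
  -- `V ≠ 0`
  have : Nontrivial V := by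
    by_contra hV
    rw [not_nontrivial_iff_subsingleton] at hV
    have hz : IsZero (Dual.inD B V) :=
      (singleFunctor (ModuleCat.{u} B) 0).map_isZero (ModuleCat.isZero_of_subsingleton _)
    have h1 : (1 : B) • 𝟙 (Dual.inD B V) = (0 : B) • 𝟙 (Dual.inD B V) :=
      hz.eq_of_src _ _
    exact one_ne_zero (h.toEnd_bijective.1 h1)
  set ω := Dual.inD B V with hωdef
  obtain ⟨n, hn1, ⟨en⟩⟩ := residue_main (IsLocalRing.maximalIdeal B) ω h
  have hω' := isDualizing_shift ω h n
  have eadd : ∀ i : ℤ, (ω⟦n⟧)⟦i⟧ ≅ ω⟦n + i⟧ := fun i =>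
    ((shiftFunctorAdd' (Dual.D B) n i (n + i) rfl).app ω).symm
  have hnorm : Dual.IsNormalized B (ω⟦n⟧) := by
    intro i hi
    exact (subsingleton_hom_congr_right (eadd i)).2 (hn1 (n + i) (by omega))
  -- the dimension is finite
  have hdim := ringKrullDim_lt_top_of_dualizing ω h
  obtain ⟨d, hd⟩ : ∃ d : ℕ, Module.supportDim B B = d := by
    rw [Module.supportDim_self_eq_ringKrullDim]
    have h0 : ringKrullDim B ≠ ⊥ := ringKrullDim_ne_bot
    have h1 : ringKrullDim B ≠ ⊤ := hdim.ne
    obtain ⟨x, hx⟩ := WithBot.ne_bot_iff_exists.1 h0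
    have hx' : x ≠ ⊤ := by
      rintro rfl
      exact h1 hx.symm
    obtain ⟨d, hd⟩ := ENat.ne_top_iff_exists.1 hx'
    exact ⟨d, by rw [← hx, ← hd]; rfl⟩
  have key : ∀ k : ℤ, Subsingleton (Dual.inD B B ⟶ (ω⟦n⟧)⟦k⟧) ↔ n + k ≠ 0 := fun k => by
    rw [subsingleton_hom_congr_right (eadd k)]
    exact subsingleton_hom_self_single_iff V (n + k)
  have hnd : n = d := by
    have hnt := nontrivial_ext_neg_dim (ω⟦n⟧) hω' hnorm B d hd
    by_contra hne
    have := (key (-(d : ℤ))).2 (by omega)
    exact not_subsingleton _ this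
  have hdepth : LocCoh.depth B B = d := by
    refine (depth_eq_iff (ω⟦n⟧) hω' hnorm B d).2 ⟨fun δ hδ => ?_, ?_⟩
    · exact (key _).2 (by omega)
    · exact nontrivial_ext_neg_dim (ω⟦n⟧) hω' hnorm B d hd
  rw [hd, hdepth]
  rfl

end Groth.Agent.Lib.Helper25.LocDual
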