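import Groth.Agent.Lib.Helper25.LocDual.CMCrit
import Groth.Agent.Lib.Helper25.LocDual.MinPrime

/-!
# The Cohen–Macaulay locus of a Noetherian ring with a dualizing complex is open and dense (S0372)
-/

set_option autoImplicit false
universe u

namespace Groth.Agent.Lib.Helper25.LocDual

open CategoryTheory CategoryTheory.Limits CategoryTheory.Pretriangulated DerivedCategory
open Groth.Agent.Lib.Helper84 Groth.Agent.Lib.Helper25.Bidual

attribute [local instance] HasDerivedCategory.standard

variable {A : Type u} [CommRing A] [IsNoetherianRing A]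

/-- `A_p` is CM iff `p` lies in the support of at most one cohomology module of `ω` -/
theorem cm_localization_iff (ω : Dual.D A) (hω : Dual.IsDualizing A ω) (p : PrimeSpectrum A) :
    LocCoh.IsCohenMacaulayLocalRing (Localization.AtPrime p.asIdeal) ↔
      ∃ m : ℤ, ∀ i : ℤ, i ≠ m → p ∉ Module.support A (Dual.HD A ω i) := by
  let S := p.asIdeal.primeCompl
  let B := Localization.AtPrime p.asIdeal
  let φ : A →+* B := algebraMap A B
  have hloc : @IsLocalization A _ S B _ φ.toAlgebra := by
    have h : φ.toAlgebra = (inferInstance : Algebra A B) :=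
      Algebra.algebra_ext _ _ (fun _ => rfl)
    rw [h]
    infer_instance
  obtain ⟨I, a, b, hI, hz, ⟨e⟩⟩ := exists_bounded_injective_model ω hω
  have hz' : ∀ i, (i < a ∨ max a b < i) → IsZero (I.X i) := fun i hi => by
    rcases hi with hi | hi
    · exact hz i (Or.inl hi)
    · exact hz i (Or.inr (lt_of_le_of_lt (le_max_right a b) hi))
  have hB : Dual.IsDualizing B (Q.obj ((DTen.extCx φ).obj I)) :=
    isDualizing_ext φ S hloc I a (max a b) (le_max_left a b) hI hz'
      (isDualizing_of_iso e.symm hω)
  haveI : IsNoetherianRing B := hB.isNoetherianRing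
  have key : ∀ i : ℤ, p ∉ Module.support A (Dual.HD A ω i) ↔
      Subsingleton (Dual.HD B (Q.obj ((DTen.extCx φ).obj I)) i) := fun i => by
    rw [Module.mem_support_iff, nontrivial_localizedModule_iff φ S hloc ω I e i,
      not_nontrivial_iff_subsingleton]
  rw [cm_iff_single_cohomology _ hB]
  simp only [key]

/-- S0372 -/
theorem cm_locus (ω : Dual.D A) (hω : Dual.IsDualizing A ω) :
    IsOpen {p : PrimeSpectrum A |
        LocCoh.IsCohenMacaulayLocalRing (Localization.AtPrime p.asIdeal)} ∧
      Dense {p : PrimeSpectrum A |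
        LocCoh.IsCohenMacaulayLocalRing (Localization.AtPrime p.asIdeal)} := by
  have hset : {p : PrimeSpectrum A |
        LocCoh.IsCohenMacaulayLocalRing (Localization.AtPrime p.asIdeal)} =
      {p | ∃ m : ℤ, ∀ i : ℤ, i ≠ m → p ∉ Module.support A (Dual.HD A ω i)} :=
    Set.ext (fun p => cm_localization_iff ω hω p)
  rw [hset]
  obtain ⟨a, b, hab⟩ : ∃ a b : ℤ, ∀ i : ℤ, (i < a ∨ b < i) →
      Subsingleton (Dual.HD A ω i) := by
    obtain ⟨I, a, b, hI, hz, ⟨e⟩⟩ := exists_bounded_injective_model ω hω
    refine ⟨a, b, fun i hi => ?_⟩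
    have h1 : IsZero ((homologyFunctor (ModuleCat.{u} A) i).obj (Q.obj I)) :=
      HomFinite.isZero_homology_Q I i (hz i hi)
    exact ModuleCat.subsingleton_of_isZero
      (h1.of_iso ((homologyFunctor (ModuleCat.{u} A) i).mapIso e.symm))
  constructor
  · have h2 : {p : PrimeSpectrum A |
          ∃ m : ℤ, ∀ i : ℤ, i ≠ m → p ∉ Module.support A (Dual.HD A ω i)} =
        ⋃ m : ℤ, ⋂ i ∈ (Finset.Icc a b).filter (· ≠ m),
          (Module.support A (Dual.HD A ω i))ᶜ := by
      ext p
      simp only [Set.mem_setOf_eq, Set.mem_iUnion, Set.mem_iInter, Finset.mem_filter,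
        Finset.mem_Icc, Set.mem_compl_iff]
      constructor
      · rintro ⟨m, hm⟩
        exact ⟨m, fun i hi => hm i hi.2⟩
      · rintro ⟨m, hm⟩
        refine ⟨m, fun i hi => ?_⟩
        by_cases hi' : a ≤ i ∧ i ≤ b
        · exact hm i ⟨hi', hi⟩
        · intro hmem
          haveI := hab i (by omega)
          rw [Module.mem_support_iff] at hmem
          exact not_subsingleton _ (inferInstance :
            Subsingleton (LocalizedModule p.asIdeal.primeCompl (Dual.HD A ω i)))
    rw [h2]
    refine isOpen_iUnion (fun m => isOpen_biInter_finset (fun i _ => ?_))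
    haveI := hω.finite_cohomology i
    exact Module.isClosed_support.isOpen_compl
  · rw [dense_iff_inter_open]
    rintro V hV ⟨q, hq⟩
    obtain ⟨p, hp, hpq⟩ := Ideal.exists_minimalPrimes_le (I := ⊥) (J := q.asIdeal) bot_le
    haveI : p.IsPrime := hp.1.1
    let p' : PrimeSpectrum A := ⟨p, hp.1.1⟩
    have hp'V : p' ∈ V := ((PrimeSpectrum.le_iff_specializes p' q).1 hpq).mem_open hV hq
    refine ⟨p', hp'V, ?_⟩
    obtain ⟨m, hm, hm'⟩ := main_minPrime ω hω p hp
    refine ⟨m, fun i hi hmem => hi (hm' i ?_)⟩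
    exact Module.mem_support_iff.1 hmem

end Groth.Agent.Lib.Helper25.LocDual
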