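import Groth.Agent.Lib.Helper25.LocDual.CMLocal
import Groth.Agent.Lib.Helper25.LocDual.ExtVanishD
import Groth.Agent.Lib.Helper39.Dual.DimVan
import Groth.Agent.Lib.Helper68.DualBasic

/-!
# A Noetherian local ring with a dualizing complex `ω` is Cohen–Macaulay iff `ω` has a single
nonzero cohomology module
-/

set_option autoImplicit false
universe u

namespace Groth.Agent.Lib.Helper25.LocDual

open CategoryTheory CategoryTheory.Limits CategoryTheory.Pretriangulated DerivedCategory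
open Groth.Agent.Lib.Helper25.Bidual

attribute [local instance] HasDerivedCategory.standard

variable {B : Type u} [CommRing B] [IsLocalRing B] [IsNoetherianRing B]

/-- single cohomology ⇒ CM -/
theorem cm_of_single_cohomology (ω : Dual.D B) (hω : Dual.IsDualizing B ω) (n : ℤ)
    (hn : ∀ i : ℤ, i ≠ n → Subsingleton (Dual.HD B ω i)) :
    Module.supportDim B B = ((LocCoh.depth B B : ℕ∞) : WithBot ℕ∞) := by
  haveI : ω.IsGE n := (DerivedCategory.isGE_iff ω n).2 (fun i hi => by
    haveI := hn i (ne_of_lt hi)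
    exact ModuleCat.isZero_of_subsingleton _)
  haveI : ω.IsLE n := (DerivedCategory.isLE_iff ω n).2 (fun i hi => by
    haveI := hn i (ne_of_gt hi)
    exact ModuleCat.isZero_of_subsingleton _)
  obtain ⟨V, ⟨e⟩⟩ := DerivedCategory.exists_iso_singleFunctor_obj_of_isGE_of_isLE ω n
  let e' : ω⟦n⟧ ≅ Dual.inD B V := (shiftFunctor (Dual.D B) n).mapIso e ≪≫
    ((singleFunctors (ModuleCat.{u} B)).shiftIso n 0 n (by simp)).app V
  have hd : Dual.IsDualizing B (Dual.inD B V) := isDualizing_of_iso e' (isDualizing_shift ω hω n)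
  haveI : Module.Finite B V := by
    have h0 := hd.finite_cohomology 0
    let e0 := ((singleFunctorCompHomologyFunctorIso (ModuleCat.{u} B) 0).app V).toLinearEquiv
    have h1 : Module.Finite B ((singleFunctor (ModuleCat.{u} B) 0 ⋙
        homologyFunctor (ModuleCat.{u} B) 0).obj V) := h0
    have h2 : Module.Finite B ((𝟭 (ModuleCat.{u} B)).obj V) := Module.Finite.equiv e0
    exact h2
  exact supportDim_eq_depth_of_dualizing_module V hd

/-- the dimension of a local ring with a dualizing complex is a natural number -/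
theorem exists_supportDim_self_eq (ω : Dual.D B) (hω : Dual.IsDualizing B ω) :
    ∃ d : ℕ, Module.supportDim B B = d := by
  have hdim := ringKrullDim_lt_top_of_dualizing ω hω
  rw [Module.supportDim_self_eq_ringKrullDim]
  have h0 : ringKrullDim B ≠ ⊥ := ringKrullDim_ne_bot
  have h1 : ringKrullDim B ≠ ⊤ := hdim.ne
  obtain ⟨x, hx⟩ := WithBot.ne_bot_iff_exists.1 h0
  have hx' : x ≠ ⊤ := by
    rintro rfl
    exact h1 hx.symm
  obtain ⟨d, hd⟩ := ENat.ne_top_iff_exists.1 hx'
  exact ⟨d, by rw [← hx, ← hd]; rfl⟩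

/-- CM ⇒ single cohomology -/
theorem single_cohomology_of_cm (ω : Dual.D B) (hω : Dual.IsDualizing B ω)
    (hcm : Module.supportDim B B = ((LocCoh.depth B B : ℕ∞) : WithBot ℕ∞)) :
    ∃ m : ℤ, ∀ i : ℤ, i ≠ m → Subsingleton (Dual.HD B ω i) := by
  obtain ⟨n, hn1, -⟩ := residue_main (IsLocalRing.maximalIdeal B) ω hω
  have hω' := isDualizing_shift ω hω n
  have eadd : ∀ i : ℤ, (ω⟦n⟧)⟦i⟧ ≅ ω⟦n + i⟧ := fun i =>
    ((shiftFunctorAdd' (Dual.D B) n i (n + i) rfl).app ω).symm
  have hnorm : Dual.IsNormalized B (ω⟦n⟧) := by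
    intro i hi
    exact (subsingleton_hom_congr_right (eadd i)).2 (hn1 (n + i) (by omega))
  obtain ⟨d, hd⟩ := exists_supportDim_self_eq ω hω
  have hdepth : LocCoh.depth B B = d := by
    rw [hd] at hcm
    have h1 : ((d : ℕ∞) : WithBot ℕ∞) = ((LocCoh.depth B B : ℕ∞) : WithBot ℕ∞) := hcm
    exact (WithBot.coe_injective h1).symm
  obtain ⟨g1, -⟩ := (depth_eq_iff (ω⟦n⟧) hω' hnorm B d).1 hdepth
  refine ⟨n - d, fun i hi => ?_⟩
  rw [← Groth.Agent.Lib.Helper39.Dual.subsingleton_hom_inD_self_iff]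
  have e2 : (ω⟦n⟧)⟦i - n⟧ ≅ ω⟦i⟧ :=
    ((shiftFunctorAdd' (Dual.D B) n (i - n) i (by omega)).app ω).symm
  rw [← subsingleton_hom_congr_right e2]
  rcases lt_trichotomy (i - n) (-(d : ℤ)) with hlt | heq | hgt
  · exact Groth.Agent.Lib.Helper39.Dual.dimVan (ω⟦n⟧) hω' hnorm d (i - n) hlt B (le_of_eq hd)
  · omega
  · by_cases hpos : 0 < i - n
    · refine hom_vanish_of_ge_zero (ω⟦n⟧) hω' hnorm (Dual.inD B B)
        (fun j => Groth.Agent.Lib.Helper68.DualBasic.finite_HD_single B B j) 0 (fun j hj => ?_)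
        (fun j hj => ?_) (i - n) hpos
      · exact ModuleCat.subsingleton_of_isZero (isZero_of_isLE _ 0 j hj)
      · exact ModuleCat.subsingleton_of_isZero (isZero_of_isGE _ 0 j hj)
    · obtain ⟨δ, hδ⟩ : ∃ δ : ℕ, i - n = -(δ : ℤ) := ⟨(n - i).toNat, by omega⟩
      rw [hδ]
      exact g1 δ (by omega)

/-- the criterion -/
theorem cm_iff_single_cohomology (ω : Dual.D B) (hω : Dual.IsDualizing B ω) :
    LocCoh.IsCohenMacaulayLocalRing B ↔
      ∃ m : ℤ, ∀ i : ℤ, i ≠ m → Subsingleton (Dual.HD B ω i) := by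
  constructor
  · intro h
    exact single_cohomology_of_cm ω hω h.supportDim_eq_depth
  · rintro ⟨m, hm⟩
    exact ⟨cm_of_single_cohomology ω hω m hm⟩

end Groth.Agent.Lib.Helper25.LocDual
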