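import Groth.Agent.Lib.Helper25.LocDual.CMLocal
import Groth.Agent.Lib.Helper25.LocDual.Main

/-!
# A Noetherian ring with a dualizing module is Cohen–Macaulay (S0370)
-/

set_option autoImplicit false
universe u

namespace Groth.Agent.Lib.Helper25.LocDual

open CategoryTheory CategoryTheory.Limits CategoryTheory.Pretriangulated DerivedCategory
open Groth.Agent.Lib.Helper25.Bidual Groth.Agent.Lib.Helper84

attribute [local instance] HasDerivedCategory.standard

variable {A : Type u} [CommRing A] [IsNoetherianRing A]

/-- localizing a dualizing module gives a dualizing module -/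
theorem isDualizing_localization_module {B : Type u} [CommRing B] (φ : A →+* B) (S : Submonoid A)
    (hloc : @IsLocalization A _ S B _ φ.toAlgebra)
    (W : Type u) [AddCommGroup W] [Module A W]
    (h : Dual.IsDualizing A (Dual.inD A W)) :
    Dual.IsDualizing B (Dual.inD B ((FlatBC.ext φ).obj (ModuleCat.of A W))) := by
  have hflat : φ.Flat := flat_of_isLocalization φ S hloc
  haveI : PreservesFiniteLimits (FlatBC.ext φ) := FlatBC.preservesFiniteLimits_ext φ hflat
  obtain ⟨I, a, b, hI, hz, ⟨e⟩⟩ := exists_bounded_injective_model (Dual.inD A W) h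
  have hz' : ∀ i, (i < a ∨ max a b < i) → IsZero (I.X i) := fun i hi => by
    rcases hi with hi | hi
    · exact hz i (Or.inl hi)
    · exact hz i (Or.inr (lt_of_le_of_lt (le_max_right a b) hi))
  have h1 := isDualizing_ext φ S hloc I a (max a b) (le_max_left a b) hI hz'
    (isDualizing_of_iso e.symm h)
  exact isDualizing_of_iso ((FlatBC.bcToD φ I).symm ≪≫ (FlatBC.bc φ).mapIso e ≪≫
    FlatBC.bcSingle φ (ModuleCat.of A W) 0) h1

/-- S0370 -/
theorem isCohenMacaulayRing_of_dualizing_module (W : Type u) [AddCommGroup W] [Module A W]
    [Module.Finite A W] (h : Dual.IsDualizing A (Dual.inD A W)) :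
    LocCoh.IsCohenMacaulayRing A where
  isCohenMacaulayLocalRing_localization := fun p _ => by
    haveI : IsNoetherianRing (Localization.AtPrime p) :=
      IsLocalization.isNoetherianRing p.primeCompl _ inferInstance
    let φ : A →+* Localization.AtPrime p := algebraMap A (Localization.AtPrime p)
    have hloc : @IsLocalization A _ p.primeCompl (Localization.AtPrime p) _ φ.toAlgebra := by
      have h : φ.toAlgebra = (inferInstance : Algebra A (Localization.AtPrime p)) :=
        Algebra.algebra_ext _ _ (fun _ => rfl)
      rw [h]; infer_instance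
    have hd := isDualizing_localization_module φ p.primeCompl hloc W h
    haveI : Module.Finite (Localization.AtPrime p) ((FlatBC.ext φ).obj (ModuleCat.of A W)) :=
      FlatBC.finite_ext φ _ (inferInstanceAs (Module.Finite A W))
    exact ⟨supportDim_eq_depth_of_dualizing_module _ hd⟩

end Groth.Agent.Lib.Helper25.LocDual
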