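import Groth.Agent.Lib.Helper25.LocDual.CMLocus

/-!
# `∃!` form of the Cohen–Macaulay criterion at a prime
-/

set_option autoImplicit false
universe u

namespace Groth.Agent.Lib.Helper25.LocDual

open CategoryTheory CategoryTheory.Limits CategoryTheory.Pretriangulated DerivedCategory
open Groth.Agent.Lib.Helper84 Groth.Agent.Lib.Helper25.Bidual

attribute [local instance] HasDerivedCategory.standard

variable {A : Type u} [CommRing A] [IsNoetherianRing A]

/-- every prime lies in the support of some cohomology module of a dualizing complex -/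
theorem exists_mem_support (ω : Dual.D A) (hω : Dual.IsDualizing A ω) (p : PrimeSpectrum A) :
    ∃ i : ℤ, p ∈ Module.support A (Dual.HD A ω i) := by
  let S := p.asIdeal.primeCompl
  let B := Localization.AtPrime p.asIdeal
  let φ : A →+* B := algebraMap A B
  have hloc : @IsLocalization A _ S B _ φ.toAlgebra := by
    have h : φ.toAlgebra = (inferInstance : Algebra A B) :=
      Algebra.algebra_ext _ _ (fun _ => rfl)
    rw [h]
    infer_instance
  obtain ⟨I, a, b, hI, hz, ⟨e⟩⟩ := exists_bounded_injective_model ω hω
  have hz' : ∀ i, (i < a ∨ max a b < i) → IsZero (I.X i) := fun i hi => by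
    rcases hi with hi | hi
    · exact hz i (Or.inl hi)
    · exact hz i (Or.inr (lt_of_le_of_lt (le_max_right a b) hi))
  have hB : Dual.IsDualizing B (Q.obj ((DTen.extCx φ).obj I)) :=
    isDualizing_ext φ S hloc I a (max a b) (le_max_left a b) hI hz'
      (isDualizing_of_iso e.symm hω)
  by_contra hcon
  push_neg at hcon
  have hz0 : IsZero (Q.obj ((DTen.extCx φ).obj I)) := by
    refine isZero_of_forall_isZero_homology _ (fun i => ?_)
    have h1 : ¬ Nontrivial (Dual.HD B (Q.obj ((DTen.extCx φ).obj I)) i) := by
      rw [← nontrivial_localizedModule_iff φ S hloc ω I e i, ← Module.mem_support_iff]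
      exact hcon i
    rw [not_nontrivial_iff_subsingleton] at h1
    exact ModuleCat.isZero_of_subsingleton _
  have h1 : (1 : B) • 𝟙 (Q.obj ((DTen.extCx φ).obj I)) = (0 : B) • 𝟙 _ := hz0.eq_of_src _ _
  exact one_ne_zero (hB.toEnd_bijective.1 h1)

/-- `A_p` is CM iff `p` lies in the support of exactly one cohomology module of `ω` -/
theorem cm_localization_iff' (ω : Dual.D A) (hω : Dual.IsDualizing A ω) (p : PrimeSpectrum A) :
    LocCoh.IsCohenMacaulayLocalRing (Localization.AtPrime p.asIdeal) ↔
      ∃! i : ℤ, p ∈ Module.support A (Dual.HD A ω i) := by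
  rw [cm_localization_iff ω hω p]
  constructor
  · rintro ⟨m, hm⟩
    obtain ⟨i₀, hi₀⟩ := exists_mem_support ω hω p
    have h0 : i₀ = m := by
      by_contra hne
      exact hm i₀ hne hi₀
    subst h0
    exact ⟨i₀, hi₀, fun i hi => by
      by_contra hne
      exact hm i hne hi⟩
  · rintro ⟨m, -, hm⟩
    exact ⟨m, fun i hi hmem => hi (hm i hmem)⟩

end Groth.Agent.Lib.Helper25.LocDual
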