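import Groth.Prelude.Def_DTen4
import Mathlib.Algebra.Homology.HomotopyCategory.HomComplex

/-!
# The extension/restriction adjunction on Hom complexes

For `φ : A →+* B`, a complex `I` of `A`-modules and a complex `Y` of `B`-modules, `B`-linear
cochains `ext I ⟶ Y` correspond to `A`-linear cochains `I ⟶ res Y` (`flat`), compatibly with the
differentials.
-/

set_option autoImplicit false
universe u

namespace Groth.Agent.Lib.Helper25.LocDual

open CategoryTheory CategoryTheory.Limits CochainComplex CochainComplex.HomComplex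

variable {A B : Type u} [CommRing A] [CommRing B] (φ : A →+* B)
  (I : DRing.Cx A) (Y : DRing.Cx B)

/-- the `A`-linear cochain `I ⟶ res Y` attached to a `B`-linear cochain `ext I ⟶ Y` -/
noncomputable def flat {n : ℤ} (z : Cochain ((DTen.extCx φ).obj I) Y n) :
    Cochain I ((DTen.resCx φ).obj Y) n :=
  (Cochain.ofHom ((DTen.unitCx φ).app I)).comp (z.map (ModuleCat.restrictScalars.{u} φ))
    (zero_add n)

theorem flat_v {n : ℤ} (z : Cochain ((DTen.extCx φ).obj I) Y n) (p q : ℤ) (hpq : p + n = q) :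
    (flat φ I Y z).v p q hpq =
      (ModuleCat.extendRestrictScalarsAdj.{u, u, u} φ).unit.app (I.X p) ≫
        (ModuleCat.restrictScalars.{u} φ).map (z.v p q hpq) := by
  dsimp only [flat]
  rw [Cochain.zero_cochain_comp_v, Cochain.ofHom_v, Cochain.map_v]
  rfl

theorem δ_flat {n m : ℤ} (z : Cochain ((DTen.extCx φ).obj I) Y n) :
    δ n m (flat φ I Y z) = flat φ I Y (δ n m z) := by
  dsimp only [flat]
  rw [δ_ofHom_comp, δ_map]

theorem flat_injective {n : ℤ} (z z' : Cochain ((DTen.extCx φ).obj I) Y n)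
    (h : flat φ I Y z = flat φ I Y z') : z = z' := by
  refine Cochain.ext _ _ (fun p q hpq => ?_)
  have h1 := Cochain.congr_v h p q hpq
  rw [flat_v, flat_v] at h1
  apply ((ModuleCat.extendRestrictScalarsAdj.{u, u, u} φ).homEquiv _ _).injective
  erw [Adjunction.homEquiv_unit, Adjunction.homEquiv_unit]
  exact h1

theorem exists_flat_eq {n : ℤ} (w : Cochain I ((DTen.resCx φ).obj Y) n) :
    ∃ w' : Cochain ((DTen.extCx φ).obj I) Y n, flat φ I Y w' = w := by
  refine ⟨Cochain.mk (fun p q hpq =>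
    ((ModuleCat.extendRestrictScalarsAdj.{u, u, u} φ).homEquiv (I.X p) (Y.X q)).symm
      (w.v p q hpq)), ?_⟩
  refine Cochain.ext _ _ (fun p q hpq => ?_)
  rw [flat_v, Cochain.mk_v]
  erw [← Adjunction.homEquiv_unit]
  exact Equiv.apply_symm_apply _ _

theorem flat_add {n : ℤ} (z z' : Cochain ((DTen.extCx φ).obj I) Y n) :
    flat φ I Y (z + z') = flat φ I Y z + flat φ I Y z' := by
  dsimp only [flat]
  rw [Cochain.map_add, Cochain.comp_add]

theorem flat_sub {n : ℤ} (z z' : Cochain ((DTen.extCx φ).obj I) Y n) :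
    flat φ I Y (z - z') = flat φ I Y z - flat φ I Y z' := by
  dsimp only [flat]
  rw [Cochain.map_sub, Cochain.comp_sub]

theorem flat_smul {n : ℤ} (a : A) (z : Cochain ((DTen.extCx φ).obj I) Y n) :
    flat φ I Y (φ a • z) = a • flat φ I Y z := by
  refine Cochain.ext _ _ (fun p q hpq => ?_)
  rw [flat_v, Cochain.smul_v, Cochain.smul_v, flat_v]
  have h1 : (ModuleCat.restrictScalars.{u} φ).map (φ a • z.v p q hpq) =
      a • (ModuleCat.restrictScalars.{u} φ).map (z.v p q hpq) :=
    ModuleCat.hom_ext (LinearMap.ext fun x => rfl)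
  exact (congrArg (fun t => (ModuleCat.extendRestrictScalarsAdj.{u, u, u} φ).unit.app (I.X p) ≫ t)
    h1).trans (Linear.comp_smul _ _ _ _ _ _)

theorem flat_ofHom (g : (DTen.extCx φ).obj I ⟶ Y) :
    flat φ I Y (Cochain.ofHom g) =
      Cochain.ofHom ((DTen.unitCx φ).app I ≫ (DTen.resCx φ).map g) := by
  dsimp only [flat]
  rw [Cochain.map_ofHom, ← Cochain.ofHom_comp]

/-- a `B`-linear cochain whose `flat` is an `A`-linear coboundary is a `B`-linear coboundary -/
theorem exists_δ_eq_of_flat {n m : ℤ} (ζ : Cochain ((DTen.extCx φ).obj I) Y n)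
    (w : Cochain I ((DTen.resCx φ).obj Y) m) (h : flat φ I Y ζ = δ m n w) :
    ∃ w' : Cochain ((DTen.extCx φ).obj I) Y m, ζ = δ m n w' := by
  obtain ⟨w', rfl⟩ := exists_flat_eq φ I Y w
  rw [δ_flat] at h
  exact ⟨w', flat_injective φ I Y _ _ h⟩

end Groth.Agent.Lib.Helper25.LocDual
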