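import Groth.Agent.Lib.Helper25.LocDual.ExtVanish
import Groth.Agent.Lib.Helper25.LocDual.HomLocSingle
import Groth.Agent.Lib.Helper25.Bidual.Residue
import Groth.Agent.Lib.Helper67.CM
import Mathlib.RingTheory.Regular.Category

/-!
# Depth via `Ext(M, ω)` for a normalized dualizing complex
-/

set_option autoImplicit false
universe u

namespace Groth.Agent.Lib.Helper25.LocDual

open CategoryTheory CategoryTheory.Limits CategoryTheory.Pretriangulated DerivedCategory
open Groth.Agent.Lib.Helper84 Groth.Agent.Lib.Helper25.Bidual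
open scoped Pointwise

attribute [local instance] HasDerivedCategory.standard

theorem nontrivial_hom_congr_right {C : Type*} [Category C] {X Y Y' : C} (e : Y ≅ Y') :
    Nontrivial (X ⟶ Y) ↔ Nontrivial (X ⟶ Y') := by
  rw [← not_subsingleton_iff_nontrivial, ← not_subsingleton_iff_nontrivial,
    subsingleton_hom_congr_right e]

variable {A : Type u} [CommRing A] [IsLocalRing A]

/-- Nakayama step for a regular element -/
theorem subsingleton_hom_of_regular (M : Type u) [AddCommGroup M] [Module A M] (x : A)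
    (hx : x ∈ IsLocalRing.maximalIdeal A) (hreg : IsSMulRegular M x) (Y : Dual.D A)
    (hfin : Module.Finite A (Dual.inD A M ⟶ Y))
    (hC : Subsingleton (Dual.inD A (QuotSMulTop x M) ⟶ Y⟦(1 : ℤ)⟧)) :
    Subsingleton (Dual.inD A M ⟶ Y) := by
  let f : M →ₗ[A] M := LinearMap.lsmul A M x
  let g : M →ₗ[A] QuotSMulTop x M := (x • (⊤ : Submodule A M)).mkQ
  have hfg : Function.Exact f g := LinearMap.exact_lsmul_mkQ_smul_top M x
  have hg : Function.Surjective g := Submodule.mkQ_surjective _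
  have hf : Function.Injective f := hreg
  have hfx : (DerivedCategory.singleFunctor (ModuleCat.{u} A) 0).map (ModuleCat.ofHom f) =
      x • 𝟙 (Dual.inD A M) := by
    have : ModuleCat.ofHom f = x • 𝟙 (ModuleCat.of A M) := by
      ext n
      rfl
    rw [this, Functor.map_smul, CategoryTheory.Functor.map_id]
  refine subsingleton_of_locZero_closedPoint _
    (locZero_of_nakayama (IsLocalRing.closedPoint A).asIdeal _ x hx (fun h => ?_))
  obtain ⟨h', hh'⟩ := exists_factor_of_connecting Y f g hf hg hfg h (hC.elim _ _)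
  refine ⟨1, fun h1 => (IsLocalRing.closedPoint A).isPrime.ne_top
    ((Ideal.eq_top_iff_one _).2 h1), h', ?_⟩
  rw [one_smul, hh', hfx, Linear.smul_comp, Category.id_comp]

/-- non-vanishing step for a regular element -/
theorem nontrivial_hom_of_regular (M : Type u) [AddCommGroup M] [Module A M] (x : A)
    (hreg : IsSMulRegular M x) (Y : Dual.D A)
    (h1 : Subsingleton (Dual.inD A M ⟶ Y⟦(1 : ℤ)⟧))
    (h2 : Nontrivial (Dual.inD A (QuotSMulTop x M) ⟶ Y⟦(1 : ℤ)⟧)) :
    Nontrivial (Dual.inD A M ⟶ Y) := by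
  let f : M →ₗ[A] M := LinearMap.lsmul A M x
  let g : M →ₗ[A] QuotSMulTop x M := (x • (⊤ : Submodule A M)).mkQ
  have hfg : Function.Exact f g := LinearMap.exact_lsmul_mkQ_smul_top M x
  have hg : Function.Surjective g := Submodule.mkQ_surjective _
  have hf : Function.Injective f := hreg
  have hS := scOf_shortExact f g hf hg hfg
  have hT := hS.singleTriangle_distinguished
  obtain ⟨φ, hφ⟩ := exists_ne (0 : Dual.inD A (QuotSMulTop x M) ⟶ Y⟦(1 : ℤ)⟧)
  obtain ⟨k, hk⟩ := Triangle.yoneda_exact₃ _ hT φ (h1.elim _ _)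
  obtain ⟨k₀, rfl⟩ := (shiftFunctor (Dual.D A) (1 : ℤ)).map_surjective (X := Dual.inD A M)
    (Y := Y) k
  refine ⟨⟨k₀, 0, fun h0 => hφ ?_⟩⟩
  rw [hk, h0, Functor.map_zero]
  exact comp_zero

variable [IsNoetherianRing A]

/-- the core induction -/
theorem depth_char (I : DRing.Cx A) (a b : ℤ) (hab : a ≤ b) (hI : ∀ n, Injective (I.X n))
    (hz : ∀ i, (i < a ∨ b < i) → IsZero (I.X i))
    (hfinH : ∀ i : ℤ, Module.Finite A (Dual.HD A (Q.obj I) i))
    (hκ : ∀ j : ℤ, 0 < j →
      Subsingleton (Dual.inD A (A ⧸ IsLocalRing.maximalIdeal A) ⟶ (Q.obj I)⟦j⟧))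
    (hκ0 : Nontrivial (Dual.inD A (A ⧸ IsLocalRing.maximalIdeal A) ⟶ (Q.obj I)⟦(0 : ℤ)⟧)) :
    ∀ (t : ℕ) (M : Type u) [AddCommGroup M] [Module A M] [Module.Finite A M] [Nontrivial M],
      LocCoh.depth A M = t →
      (∀ δ : ℕ, δ < t → Subsingleton (Dual.inD A M ⟶ (Q.obj I)⟦(-(δ : ℤ))⟧)) ∧
        Nontrivial (Dual.inD A M ⟶ (Q.obj I)⟦(-(t : ℤ))⟧) := by
  have hBF : HomFinite.BddFin (Q.obj I) :=
    ⟨⟨a, b, fun i hi => HomFinite.isZero_homology_Q I i (hz i hi)⟩, hfinH⟩
  have hvan := ext_vanish_above I a b hab hI hz hfinH 0 hκ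
  have hfinHom : ∀ (M : Type u) [AddCommGroup M] [Module A M] [Module.Finite A M] (k : ℤ),
      Module.Finite A (Dual.inD A M ⟶ (Q.obj I)⟦k⟧) := by
    intro M _ _ _ k
    haveI : IsNoetherian A (Dual.inD A M ⟶ (Q.obj I)⟦k⟧) :=
      HomFinite.noeth_single_left (ModuleCat.of A M) 0 (Q.obj I) hBF k
    infer_instance
  -- shifting by one
  have hshift : ∀ (k k' : ℤ) (_ : k + 1 = k'),
      ((Q.obj I)⟦k⟧)⟦(1 : ℤ)⟧ ≅ (Q.obj I)⟦k'⟧ := fun k k' h =>
    ((shiftFunctorAdd' (Dual.D A) k 1 k' h).app (Q.obj I)).symm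
  intro t
  induction t with
  | zero =>
    intro M _ _ _ _ hdepth
    refine ⟨fun δ hδ => absurd hδ (Nat.not_lt_zero δ), ?_⟩
    rw [Nat.cast_zero] at hdepth
    have hass := (Groth.Agent.Lib.Helper67.depth_eq_zero_iff M).1 hdepth
    obtain ⟨-, f, hf⟩ := (isAssociatedPrime_iff_exists_injective_linearMap _ _).1 hass
    let g := (LinearMap.range f).mkQ
    have hfg : Function.Exact f g := LinearMap.exact_map_mkQ_range f
    have hg : Function.Surjective g := Submodule.mkQ_surjective _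
    have hc : Subsingleton (Dual.inD A (M ⧸ LinearMap.range f) ⟶
        ((Q.obj I)⟦(-((0 : ℕ) : ℤ))⟧)⟦(1 : ℤ)⟧) :=
      (subsingleton_hom_congr_right (hshift _ 1 (by simp))).2 (hvan 1 (by omega) _)
    have hκ0' : Nontrivial (Dual.inD A (A ⧸ IsLocalRing.maximalIdeal A) ⟶
        (Q.obj I)⟦(-((0 : ℕ) : ℤ))⟧) := by
      have e : (-((0 : ℕ) : ℤ)) = 0 := by simp
      rw [e]
      exact hκ0
    obtain ⟨h₀, hh₀⟩ := exists_ne (0 : Dual.inD A (A ⧸ IsLocalRing.maximalIdeal A) ⟶
        (Q.obj I)⟦(-((0 : ℕ) : ℤ))⟧)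
    obtain ⟨h', hh'⟩ := exists_factor_of_connecting _ f g hf hg hfg h₀ (hc.elim _ _)
    refine ⟨⟨h', 0, fun h0 => hh₀ ?_⟩⟩
    rw [hh', h0, comp_zero]
  | succ t ih =>
    intro M _ _ _ _ hdepth
    -- a regular element
    have hne0 : LocCoh.depth A M ≠ 0 := by
      rw [hdepth]
      exact_mod_cast Nat.succ_ne_zero t
    have hmM : IsLocalRing.maximalIdeal A • (⊤ : Submodule A M) ≠ ⊤ :=
      Groth.Agent.Lib.Helper67.maximalIdeal_smul_top_ne_top M
    obtain ⟨x, hx, hreg⟩ : ∃ x ∈ IsLocalRing.maximalIdeal A, IsSMulRegular M x := by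
      by_contra hcon
      push Not at hcon
      exact hne0 ((Groth.Agent.Lib.Helper67.idealDepth_eq_zero_iff_forall _ M).2 ⟨hmM, hcon⟩)
    have hdq := Groth.Agent.Lib.Helper67.depth_quotSMulTop_add_one M hx hreg
    haveI : Nontrivial (QuotSMulTop x M) := by
      rw [Submodule.Quotient.nontrivial_iff, ← lt_top_iff_ne_top]
      refine lt_of_le_of_lt ?_ (lt_top_iff_ne_top.2 hmM)
      rw [← Submodule.ideal_span_singleton_smul]
      exact Submodule.smul_mono_left ((Ideal.span_singleton_le_iff_mem _).2 hx)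
    have hdq' : LocCoh.depth A (QuotSMulTop x M) = t := by
      rw [hdepth, Nat.cast_succ] at hdq
      exact (ENat.add_left_injective_of_ne_top ENat.one_ne_top) hdq
    obtain ⟨ih1, ih2⟩ := ih (QuotSMulTop x M) hdq'
    have hi : ∀ δ : ℕ, δ < t + 1 →
        Subsingleton (Dual.inD A M ⟶ (Q.obj I)⟦(-(δ : ℤ))⟧) := by
      intro δ hδ
      refine subsingleton_hom_of_regular M x hx hreg _ (hfinHom M _) ?_
      rcases Nat.eq_zero_or_pos δ with h0 | hpos
      · subst h0
        exact (subsingleton_hom_congr_right (hshift _ 1 (by simp))).2 (hvan 1 (by omega) _)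
      · have h1 := ih1 (δ - 1) (by omega)
        exact (subsingleton_hom_congr_right (hshift _ _ (by
          have : ((δ - 1 : ℕ) : ℤ) = (δ : ℤ) - 1 := by
            rw [Nat.cast_sub hpos, Nat.cast_one]
          rw [this]; ring))).2 h1
    refine ⟨hi, ?_⟩
    have e1 := hshift (-((t + 1 : ℕ) : ℤ)) (-(t : ℤ)) (by push_cast; ring)
    exact nontrivial_hom_of_regular M x hreg _
      ((subsingleton_hom_congr_right e1).2 (hi t (by omega)))
      ((nontrivial_hom_congr_right e1).2 ih2)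

end Groth.Agent.Lib.Helper25.LocDual
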