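import Groth.Agent.Lib.Helper25.LocDual.HomLoc
import Mathlib.RingTheory.Nakayama
import Mathlib.RingTheory.Localization.Finiteness
import Mathlib.RingTheory.Localization.AtPrime.Basic

/-!
# Nakayama's lemma after localization at a prime
-/

set_option autoImplicit false
universe u

namespace Groth.Agent.Lib.Helper25.LocDual

theorem locZero_of_nakayama {A : Type*} [CommRing A] (q : Ideal A) [q.IsPrime]
    (N : Type*) [AddCommGroup N] [Module A N] [Module.Finite A N] (x : A) (hx : x ∈ q)
    (h : ∀ m : N, ∃ r ∉ q, ∃ m' : N, r • m = x • m') : LocZero q.primeCompl N := by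
  rw [locZero_iff_subsingleton]
  let Bq := Localization.AtPrime q
  let Nq := LocalizedModule q.primeCompl N
  have hfg : (⊤ : Submodule Bq Nq).FG := Module.Finite.fg_top
  have hle : (⊤ : Submodule Bq Nq) ≤ IsLocalRing.maximalIdeal Bq • (⊤ : Submodule Bq Nq) := by
    intro y _
    induction y using LocalizedModule.induction_on with
    | h m t =>
      obtain ⟨r, hr, m', hm'⟩ := h m
      let r' : q.primeCompl := ⟨r, hr⟩
      have h1 : LocalizedModule.mk m t = LocalizedModule.mk (r' • m) (r' * t) :=
        (LocalizedModule.mk_cancel_common_left r' t m).symm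
      have h2 : r' • m = x • m' := hm'
      have h3 : LocalizedModule.mk (x • m') (r' * t) =
          (Localization.mk x (1 : q.primeCompl)) • LocalizedModule.mk m' (r' * t) := by
        rw [LocalizedModule.mk_smul_mk, one_mul]
      rw [h1, h2, h3]
      refine Submodule.smul_mem_smul ?_ Submodule.mem_top
      rw [Localization.mk_one_eq_algebraMap]
      exact (IsLocalization.AtPrime.to_map_mem_maximal_iff Bq q x).2 hx
  have hjac : IsLocalRing.maximalIdeal Bq ≤ Ideal.jacobson ⊥ := by
    rw [IsLocalRing.jacobson_eq_maximalIdeal ⊥ bot_ne_top]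
  have hbot := Submodule.eq_bot_of_le_smul_of_le_jacobson_bot _ _ hfg hle hjac
  exact ⟨fun y y' => by
    have hy : y ∈ (⊤ : Submodule Bq Nq) := Submodule.mem_top
    have hy' : y' ∈ (⊤ : Submodule Bq Nq) := Submodule.mem_top
    rw [hbot, Submodule.mem_bot] at hy hy'
    rw [hy, hy']⟩

end Groth.Agent.Lib.Helper25.LocDual
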