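import Groth.Agent.Lib.Helper25.LocDual.DimFunB
import Groth.Agent.Lib.Helper25.LocDual.NakLoc

/-!
# The covering step for the dimension function
-/

set_option autoImplicit false
universe u

namespace Groth.Agent.Lib.Helper25.LocDual

open CategoryTheory CategoryTheory.Limits CategoryTheory.Pretriangulated DerivedCategory

attribute [local instance] HasDerivedCategory.standard

variable {A : Type u} [CommRing A]

/-- exactness of `Hom(N₂, Y) → Hom(N₁, Y) → Hom(N₃, Y[1])` -/
theorem exists_factor_of_connecting (Y : Dual.D A)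
    {N₁ N₂ N₃ : Type u} [AddCommGroup N₁] [Module A N₁] [AddCommGroup N₂]
    [Module A N₂] [AddCommGroup N₃] [Module A N₃] (f : N₁ →ₗ[A] N₂) (g : N₂ →ₗ[A] N₃)
    (hf : Function.Injective f) (hg : Function.Surjective g) (hfg : Function.Exact f g)
    (h : Dual.inD A N₁ ⟶ Y)
    (hc : (scOf_shortExact f g hf hg hfg).singleδ ≫ h⟦(1 : ℤ)⟧' = 0) :
    ∃ h' : Dual.inD A N₂ ⟶ Y,
      h = (DerivedCategory.singleFunctor (ModuleCat.{u} A) 0).map (ModuleCat.ofHom f) ≫ h' := by
  have hS := scOf_shortExact f g hf hg hfg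
  have hT := hS.singleTriangle_distinguished
  obtain ⟨ψ, hψ⟩ := Triangle.yoneda_exact₃ _ (rot_of_distTriang _ hT) (h⟦(1 : ℤ)⟧') hc
  obtain ⟨k₀, hk₀⟩ := (shiftFunctor (Dual.D A) (1 : ℤ)).map_surjective (X := Dual.inD A N₂)
    (Y := Y) ψ
  refine ⟨-k₀, ?_⟩
  apply (shiftFunctor (Dual.D A) (1 : ℤ)).map_injective
  have h1 : hS.singleTriangle.rotate.mor₃ =
      -((DerivedCategory.singleFunctor (ModuleCat.{u} A) 0).map (ModuleCat.ofHom f))⟦(1 : ℤ)⟧' := rfl
  rw [Functor.map_comp, Functor.map_neg, Preadditive.comp_neg, ← Preadditive.neg_comp, hk₀]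
  exact hψ.trans (by rw [h1]; rfl)

variable [IsNoetherianRing A]

omit [IsNoetherianRing A] in
/-- multiplication by `x ∉ p` on `A/p` is injective -/
theorem lsmul_quot_injective (p : PrimeSpectrum A) (x : A) (hxp : x ∉ p.asIdeal) :
    Function.Injective (LinearMap.lsmul A (A ⧸ p.asIdeal) x) := by
  rw [← LinearMap.ker_eq_bot, LinearMap.ker_eq_bot']
  intro n hn
  obtain ⟨a, rfl⟩ := Ideal.Quotient.mk_surjective n
  have h1 : (Ideal.Quotient.mk p.asIdeal) (x * a) = 0 := by
    rw [map_mul]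
    exact hn
  rw [Ideal.Quotient.eq_zero_iff_mem] at h1 ⊢
  exact (p.isPrime.mem_or_mem h1).resolve_left hxp

omit [IsNoetherianRing A] in
/-- the Nakayama step: if `Hom((A/p)/x, Y[1])_q = 0` then `Hom(A/p, Y)_q = 0` -/
theorem locZero_hom_quot_core (p q : PrimeSpectrum A) (x : A) (hxq : x ∈ q.asIdeal)
    (hxp : x ∉ p.asIdeal) (Y : Dual.D A)
    (hfin : Module.Finite A (Dual.inD A (A ⧸ p.asIdeal) ⟶ Y))
    (hC : LocZero q.asIdeal.primeCompl
      (Dual.inD A ((A ⧸ p.asIdeal) ⧸ LinearMap.range (LinearMap.lsmul A (A ⧸ p.asIdeal) x)) ⟶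
        Y⟦(1 : ℤ)⟧)) :
    LocZero q.asIdeal.primeCompl (Dual.inD A (A ⧸ p.asIdeal) ⟶ Y) := by
  let N := A ⧸ p.asIdeal
  let f : N →ₗ[A] N := LinearMap.lsmul A N x
  let g : N →ₗ[A] (N ⧸ LinearMap.range f) := (LinearMap.range f).mkQ
  have hfg : Function.Exact f g := LinearMap.exact_map_mkQ_range f
  have hg : Function.Surjective g := Submodule.mkQ_surjective _
  have hf : Function.Injective f := lsmul_quot_injective p x hxp
  have hfx : (DerivedCategory.singleFunctor (ModuleCat.{u} A) 0).map (ModuleCat.ofHom f) =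
      x • 𝟙 (Dual.inD A N) := by
    have : ModuleCat.ofHom f = x • 𝟙 (ModuleCat.of A N) := by
      ext n
      rfl
    rw [this, Functor.map_smul, CategoryTheory.Functor.map_id]
  refine locZero_of_nakayama q.asIdeal _ x hxq (fun h => ?_)
  obtain ⟨r, hr, hrc⟩ := hC ((scOf_shortExact f g hf hg hfg).singleδ ≫ h⟦(1 : ℤ)⟧')
  have hrc' : (scOf_shortExact f g hf hg hfg).singleδ ≫ (r • h)⟦(1 : ℤ)⟧' = 0 := by
    rw [Functor.map_smul]
    exact (Linear.comp_smul _ _ _ _ _ _).trans hrc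
  obtain ⟨h', hh'⟩ := exists_factor_of_connecting Y f g hf hg hfg (r • h) hrc'
  refine ⟨r, hr, h', ?_⟩
  rw [hh', hfx, Linear.smul_comp, Category.id_comp]

theorem locZero_hom_quot_of_covBy (p q : PrimeSpectrum A) (hpq : p ⋖ q) (Y : Dual.D A)
    (hfin : Module.Finite A (Dual.inD A (A ⧸ p.asIdeal) ⟶ Y))
    (hY : LocZero q.asIdeal.primeCompl (Dual.inD A (A ⧸ q.asIdeal) ⟶ Y⟦(1 : ℤ)⟧)) :
    LocZero q.asIdeal.primeCompl (Dual.inD A (A ⧸ p.asIdeal) ⟶ Y) := by
  have hlt : p.asIdeal < q.asIdeal := hpq.lt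
  obtain ⟨x, hxq, hxp⟩ := SetLike.exists_of_lt hlt
  let N := A ⧸ p.asIdeal
  let f : N →ₗ[A] N := LinearMap.lsmul A N x
  have hfg : Function.Exact f (LinearMap.range f).mkQ := LinearMap.exact_map_mkQ_range f
  -- the support condition
  have hM : ∀ p' ∈ Module.support A (N ⧸ LinearMap.range f), p' ≤ q → p' = q := by
    intro p' hp' hle
    have hann := Module.annihilator_le_of_mem_support hp'
    have h1 : p.asIdeal ≤ p'.asIdeal := by
      intro a ha
      apply hann
      rw [Module.mem_annihilator]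
      intro m
      obtain ⟨n, rfl⟩ := Submodule.mkQ_surjective _ m
      obtain ⟨b, rfl⟩ := Ideal.Quotient.mk_surjective n
      rw [← map_smul]
      have : a • (Ideal.Quotient.mk p.asIdeal) b = 0 := by
        rw [Algebra.smul_def]
        have : algebraMap A (A ⧸ p.asIdeal) a = 0 := Ideal.Quotient.eq_zero_iff_mem.2 ha
        rw [this, zero_mul]
      rw [this, map_zero]
    have h2 : x ∈ p'.asIdeal := by
      apply hann
      rw [Module.mem_annihilator]
      intro m
      obtain ⟨n, rfl⟩ := Submodule.mkQ_surjective _ m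
      rw [← map_smul]
      exact hfg.apply_apply_eq_zero n
    have h3 : p < p' := lt_of_le_of_ne h1 (fun heq => hxp (by rw [heq]; exact h2))
    exact eq_of_le_of_not_lt hle (hpq.2 h3)
  have hC : LocZero q.asIdeal.primeCompl (Dual.inD A (N ⧸ LinearMap.range f) ⟶ Y⟦(1 : ℤ)⟧) :=
    locZero_hom_of_support q _ hY _ hM
  exact locZero_hom_quot_core p q x hxq hxp Y hfin hC

end Groth.Agent.Lib.Helper25.LocDual
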