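import Groth.Agent.Lib.Helper25.LocDual.DimFunA
import Groth.Agent.Lib.Helper25.LocDual.DimFunC
import Groth.Agent.Lib.Helper84.HomFinite

/-!
# The dimension function of a dualizing complex
-/

set_option autoImplicit false
universe u

namespace Groth.Agent.Lib.Helper25.LocDual

open CategoryTheory CategoryTheory.Limits CategoryTheory.Pretriangulated DerivedCategory
open Groth.Agent.Lib.Helper84 Groth.Agent.Lib.Helper25.Bidual

attribute [local instance] HasDerivedCategory.standard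

variable {A : Type u} [CommRing A] [IsNoetherianRing A]

/-- the dimension function for a bounded injective model -/
theorem dimFun_model (I : DRing.Cx A) (a b : ℤ) (hab : a ≤ b) (hI : ∀ n, Injective (I.X n))
    (hz : ∀ i, (i < a ∨ b < i) → IsZero (I.X i)) (hω : Dual.IsDualizing A (Q.obj I)) :
    ∃ n : PrimeSpectrum A → ℤ,
      (∀ (p : PrimeSpectrum A) (i : ℤ),
        LocZero p.asIdeal.primeCompl (Dual.inD A (A ⧸ p.asIdeal) ⟶ (Q.obj I)⟦i⟧) ↔ i ≠ n p) ∧
      ∀ p q : PrimeSpectrum A, p ⋖ q → n q = n p + 1 := by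
  have hdeg := fun p : PrimeSpectrum A => exists_degree I a b hab hI hz hω p.asIdeal
  choose n hn using hdeg
  refine ⟨n, hn, fun p q hpq => ?_⟩
  by_contra hne
  have hne' : n p + 1 ≠ n q := fun h => hne h.symm
  let Y : Dual.D A := (Q.obj I)⟦n p⟧
  have hY : LocZero q.asIdeal.primeCompl (Dual.inD A (A ⧸ q.asIdeal) ⟶ Y⟦(1 : ℤ)⟧) :=
    LocZero.of_linearEquiv (Linear.homCongr A (Iso.refl _)
      ((shiftFunctorAdd' (Dual.D A) (n p) 1 (n p + 1) rfl).app (Q.obj I)))
      ((hn q (n p + 1)).2 hne')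
  have hBF : HomFinite.BddFin (Q.obj I) :=
    ⟨⟨a, b, fun i hi => HomFinite.isZero_homology_Q I i (hz i hi)⟩, hω.finite_cohomology⟩
  have hnoeth := HomFinite.noeth_single_left (ModuleCat.of A (A ⧸ p.asIdeal)) 0 (Q.obj I) hBF (n p)
  haveI : IsNoetherian A (Dual.inD A (A ⧸ p.asIdeal) ⟶ Y) := hnoeth
  have h1 := locZero_hom_quot_of_covBy p q hpq Y inferInstance hY
  have hle : q.asIdeal.primeCompl ≤ p.asIdeal.primeCompl := fun x hx hxp => hx (hpq.le hxp)
  exact (hn p (n p)).1 (h1.mono hle) rfl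

/-- **Dimension function** of a dualizing complex -/
theorem dimFun_main (ω : Dual.D A) (hω : Dual.IsDualizing A ω) :
    ∃ δ : PrimeSpectrum A → ℤ,
      (∀ (p : PrimeSpectrum A) (i : ℤ),
        Nontrivial (LocalizedModule p.asIdeal.primeCompl
          (Dual.inD A (A ⧸ p.asIdeal) ⟶ ω⟦i⟧)) ↔ i = -δ p) ∧
      ∀ p q : PrimeSpectrum A, p ⋖ q → δ p = δ q + 1 := by
  obtain ⟨I, a, b, hI, hz, ⟨e⟩⟩ := exists_bounded_injective_model ω hω
  have hz' : ∀ i, (i < a ∨ max a b < i) → IsZero (I.X i) := fun i hi => by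
    rcases hi with hi | hi
    · exact hz i (Or.inl hi)
    · exact hz i (Or.inr (lt_of_le_of_lt (le_max_right a b) hi))
  obtain ⟨n, hn, hcov⟩ := dimFun_model I a (max a b) (le_max_left a b) hI hz'
    (isDualizing_of_iso e.symm hω)
  refine ⟨fun p => -n p, fun p i => ?_, fun p q hpq => ?_⟩
  · rw [neg_neg, ← not_subsingleton_iff_nontrivial, ← locZero_iff_subsingleton]
    have hiff : LocZero p.asIdeal.primeCompl (Dual.inD A (A ⧸ p.asIdeal) ⟶ ω⟦i⟧) ↔
        LocZero p.asIdeal.primeCompl (Dual.inD A (A ⧸ p.asIdeal) ⟶ (Q.obj I)⟦i⟧) :=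
      ⟨fun h => h.of_linearEquiv (Linear.homCongr A (Iso.refl _)
          ((shiftFunctor (Dual.D A) i).mapIso e.symm)),
        fun h => h.of_linearEquiv (Linear.homCongr A (Iso.refl _)
          ((shiftFunctor (Dual.D A) i).mapIso e))⟩
    rw [hiff, hn p i, not_not]
  · have := hcov p q hpq
    change -n p = -n q + 1
    rw [this]
    ring

end Groth.Agent.Lib.Helper25.LocDual
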