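import Groth.Agent.Lib.Helper25.LocDual.HomLocPrime
import Groth.Agent.Lib.Helper25.Bidual.Residue

/-!
# The dimension function of a dualizing complex: definition and characterization
-/

set_option autoImplicit false
universe u

namespace Groth.Agent.Lib.Helper25.LocDual

open CategoryTheory CategoryTheory.Limits CategoryTheory.Pretriangulated DerivedCategory
open Groth.Agent.Lib.Helper84 Groth.Agent.Lib.Helper25.Bidual

attribute [local instance] HasDerivedCategory.standard

variable {A : Type u} [CommRing A] [IsNoetherianRing A]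

/-- for each prime `p`, there is exactly one degree `n` in which `Ext^n(A/p, I)_p` is non-zero -/
theorem exists_degree (I : DRing.Cx A) (a b : ℤ) (hab : a ≤ b) (hI : ∀ n, Injective (I.X n))
    (hz : ∀ i, (i < a ∨ b < i) → IsZero (I.X i)) (hω : Dual.IsDualizing A (Q.obj I))
    (p : Ideal A) [p.IsPrime] :
    ∃ n : ℤ, ∀ i : ℤ, LocZero p.primeCompl (Dual.inD A (A ⧸ p) ⟶ (Q.obj I)⟦i⟧) ↔ i ≠ n := by
  let B := Localization.AtPrime p
  let φ : A →+* B := algebraMap A B
  have hloc : @IsLocalization A _ p.primeCompl B _ φ.toAlgebra := by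
    have h : φ.toAlgebra = (inferInstance : Algebra A B) :=
      Algebra.algebra_ext _ _ (fun _ => rfl)
    rw [h]
    infer_instance
  have hB : Dual.IsDualizing B (Q.obj ((DTen.extCx φ).obj I)) :=
    isDualizing_ext φ p.primeCompl hloc I a b hab hI hz hω
  obtain ⟨n, hn, ⟨en⟩⟩ := residue_main (IsLocalRing.maximalIdeal B) _ hB
  refine ⟨n, fun i => ?_⟩
  rw [locZero_hom_quot_prime_iff φ p hloc I a b hI hz i]
  constructor
  · intro h hi
    subst hi
    haveI : Nontrivial (B ⧸ IsLocalRing.maximalIdeal B) :=
      Ideal.Quotient.nontrivial_iff.2 (IsLocalRing.maximalIdeal.isMaximal B).ne_top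
    haveI : Subsingleton (B ⧸ IsLocalRing.maximalIdeal B) := en.symm.toEquiv.subsingleton
    exact not_subsingleton (B ⧸ IsLocalRing.maximalIdeal B) inferInstance
  · intro hi
    exact hn i hi

end Groth.Agent.Lib.Helper25.LocDual
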