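import Groth.Agent.Lib.Helper25.LocDual.DimFun
import Groth.Agent.Lib.Helper25.LocDual.MinPrime
import Mathlib.RingTheory.KrullDimension.NonZeroDivisors

/-!
# The dimension function of a normalized dualizing complex over a local ring
-/

set_option autoImplicit false
universe u

namespace Groth.Agent.Lib.Helper25.LocDual

open CategoryTheory CategoryTheory.Limits CategoryTheory.Pretriangulated DerivedCategory
open Groth.Agent.Lib.Helper84 Groth.Agent.Lib.Helper25.Bidual

attribute [local instance] HasDerivedCategory.standard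

variable {A : Type u} [CommRing A]

theorem ringKrullDim_quotient_eq_coheight (q : PrimeSpectrum A) :
    ringKrullDim (A ⧸ q.asIdeal) = Order.coheight q := by
  rw [ringKrullDim_quotient, Order.coheight_eq_krullDim_Ici]
  have h : PrimeSpectrum.zeroLocus (q.asIdeal : Set A) = Set.Ici q := by
    ext x
    rw [PrimeSpectrum.mem_zeroLocus, Set.mem_Ici, SetLike.coe_subset_coe]
    rfl
  rw [h]

theorem eq_neg_coheight [IsLocalRing A] (n : PrimeSpectrum A → ℤ)
    (hcov : ∀ p q : PrimeSpectrum A, p ⋖ q → n q = n p + 1)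
    (h0 : n (IsLocalRing.closedPoint A) = 0) :
    ∀ (e : ℕ) (q : PrimeSpectrum A), Order.coheight q = e → n q = -(e : ℤ) := by
  intro e
  induction e with
  | zero =>
    intro q hq
    rw [Nat.cast_zero, Order.coheight_eq_zero] at hq
    have hle : q ≤ IsLocalRing.closedPoint A := IsLocalRing.le_maximalIdeal q.isPrime.ne_top
    have : q = IsLocalRing.closedPoint A := le_antisymm hle (hq hle)
    rw [this, h0, Nat.cast_zero, neg_zero]
  | succ e ih =>
    intro q hq
    rw [Nat.cast_succ] at hq
    obtain ⟨-, ⟨y, hy, hye⟩, hall⟩ := Order.coheight_eq_coe_add_one_iff.1 hq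
    have hcv : q ⋖ y := by
      refine ⟨hy, fun c hqc hcy => ?_⟩
      have h1 := hall c hqc
      have h2 := Order.coheight_add_one_le hcy
      rw [hye] at h2
      have h3 : ((e : ℕ∞) + 1) ≤ e := le_trans h2 h1
      have h4 : ((e + 1 : ℕ) : ℕ∞) ≤ (e : ℕ∞) := by exact_mod_cast h3
      have h5 : e + 1 ≤ e := by exact_mod_cast h4
      omega
    have h1 := ih y hye
    have h2 := hcov q y hcv
    rw [h1] at h2
    push_cast
    linarith

variable [IsNoetherianRing A]

/-- S1719 -/
theorem main_minPrime_local [IsLocalRing A] (ω : Dual.D A) (hω : Dual.IsDualizing A ω)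
    (hnorm : Dual.IsNormalized A ω) (p : Ideal A) (hp : p ∈ minimalPrimes A) (e : ℕ)
    (he : ringKrullDim (A ⧸ p) = e) (i : ℤ) :
    Nontrivial (LocalizedModule (Ideal.primeCompl p (hp := hp.1.1)) (Dual.HD A ω i)) ↔
      i = -(e : ℤ) := by
  haveI : p.IsPrime := hp.1.1
  let S := p.primeCompl
  let B := Localization.AtPrime p
  let φ : A →+* B := algebraMap A B
  have hloc : @IsLocalization A _ S B _ φ.toAlgebra := by
    have h : φ.toAlgebra = (inferInstance : Algebra A B) :=
      Algebra.algebra_ext _ _ (fun _ => rfl)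
    rw [h]
    infer_instance
  obtain ⟨I, a, b, hI, hz, ⟨eI⟩⟩ := exists_bounded_injective_model ω hω
  have hz' : ∀ i, (i < a ∨ max a b < i) → IsZero (I.X i) := fun i hi => by
    rcases hi with hi | hi
    · exact hz i (Or.inl hi)
    · exact hz i (Or.inr (lt_of_le_of_lt (le_max_right a b) hi))
  have hωI := isDualizing_of_iso eI.symm hω
  obtain ⟨n, hn, hcov⟩ := dimFun_model I a (max a b) (le_max_left a b) hI hz' hωI
  -- normalization
  have h0 : n (IsLocalRing.closedPoint A) = 0 := by
    by_contra hne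
    have hs : Subsingleton (Dual.inD A (IsLocalRing.ResidueField A) ⟶
        (Q.obj I)⟦n (IsLocalRing.closedPoint A)⟧) :=
      (subsingleton_hom_congr_right ((shiftFunctor (Dual.D A) _).mapIso eI.symm)).1
        (hnorm _ hne)
    have hl : LocZero (IsLocalRing.closedPoint A).asIdeal.primeCompl
        (Dual.inD A (A ⧸ (IsLocalRing.closedPoint A).asIdeal) ⟶
          (Q.obj I)⟦n (IsLocalRing.closedPoint A)⟧) :=
      @locZero_of_subsingleton _ _ _ _ _ _ hs
    exact (hn _ _).1 hl rfl
  have hB : Dual.IsDualizing B (Q.obj ((DTen.extCx φ).obj I)) :=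
    isDualizing_ext φ S hloc I a (max a b) (le_max_left a b) hI hz' hωI
  haveI : IsNoetherianRing B := hB.isNoetherianRing
  haveI : Ring.KrullDimLE 0 B := Ring.KrullDimLE.of_isLocalization p hp B
  haveI : IsArtinianRing B := isArtinianRing_iff_krullDimLE_zero.2 inferInstance
  let P : PrimeSpectrum A := ⟨p, hp.1.1⟩
  have hd : ∀ j : ℤ, j ≠ n P →
      Subsingleton (Dual.inD B (B ⧸ IsLocalRing.maximalIdeal B) ⟶
        (Q.obj ((DTen.extCx φ).obj I))⟦j⟧) := fun j hj =>
    (locZero_hom_quot_prime_iff φ p hloc I a (max a b) hI hz' j).1 ((hn P j).2 hj)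
  rw [nontrivial_localizedModule_iff φ S hloc ω I eI i,
    nontrivial_HD_iff_of_artinian _ hB (n P) hd i]
  have hco : Order.coheight P = (e : ℕ∞) := by
    have h1 := ringKrullDim_quotient_eq_coheight P
    rw [he] at h1
    exact_mod_cast h1.symm
  rw [eq_neg_coheight n hcov h0 e P hco]

end Groth.Agent.Lib.Helper25.LocDual
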