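import Groth.Agent.Lib.Helper25.LocDual.DepthExt
import Groth.Agent.Lib.Helper25.Bidual.Main

/-!
# A shift of a dualizing complex is dualizing
-/

set_option autoImplicit false
universe u

namespace Groth.Agent.Lib.Helper25.LocDual

open CategoryTheory CategoryTheory.Limits CategoryTheory.Pretriangulated DerivedCategory
open Groth.Agent.Lib.Helper25.Bidual

attribute [local instance] HasDerivedCategory.standard

variable {A : Type u} [CommRing A]

/-- a shift of a dualizing complex is dualizing -/
theorem isDualizing_shift (ω : Dual.D A) (hω : Dual.IsDualizing A ω) (n : ℤ) :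
    Dual.IsDualizing A (ω⟦n⟧) := by
  refine ⟨hω.isNoetherianRing, ?_, ?_, ?_, ?_⟩
  · obtain ⟨a, b, hab⟩ := hω.finite_injective_dimension
    refine ⟨a - n, b - n, fun M _ _ i hi => ?_⟩
    have e : (ω⟦n⟧)⟦i⟧ ≅ ω⟦n + i⟧ := ((shiftFunctorAdd' (Dual.D A) n i (n + i) rfl).app ω).symm
    exact (subsingleton_hom_congr_right e).2 (hab M (n + i) (by omega))
  · intro i
    have e : (homologyFunctor (ModuleCat.{u} A) i).obj (ω⟦n⟧) ≅
        (homologyFunctor (ModuleCat.{u} A) (n + i)).obj ω :=
      ((homologyFunctor (ModuleCat.{u} A) 0).shiftIso n i (n + i) rfl).app ω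
    have := hω.finite_cohomology (n + i)
    exact Module.Finite.equiv e.symm.toLinearEquiv
  · have hF : Function.Bijective
        (fun f : ω ⟶ ω => (shiftFunctor (Dual.D A) n).map f) :=
      ⟨fun f g h => (shiftFunctor (Dual.D A) n).map_injective h,
        fun g => (shiftFunctor (Dual.D A) n).map_surjective g⟩
    have h := hF.comp hω.toEnd_bijective
    convert h using 1
    funext a
    simp only [Function.comp_apply]
    rw [Functor.map_smul, CategoryTheory.Functor.map_id]
  · intro i hi
    have := hω.ext_self_subsingleton i hi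
    have e : (ω⟦n⟧)⟦i⟧ ≅ (ω⟦i⟧)⟦n⟧ := shiftComm ω n i
    refine (subsingleton_hom_congr_right e).2 ?_
    refine ⟨fun f g => ?_⟩
    obtain ⟨f', rfl⟩ := (shiftFunctor (Dual.D A) n).map_surjective f
    obtain ⟨g', rfl⟩ := (shiftFunctor (Dual.D A) n).map_surjective g
    rw [Subsingleton.elim f' g']

end Groth.Agent.Lib.Helper25.LocDual
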