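import Groth.Agent.Lib.Helper25.LocDual.DimFunC
import Groth.Agent.Lib.Helper84.HomFinite
import Groth.Agent.S12537

/-!
# Vanishing of `Ext^k(M, ω)` above the degree of `Ext(κ, ω)` (local case)
-/

set_option autoImplicit false
universe u

namespace Groth.Agent.Lib.Helper25.LocDual

open CategoryTheory CategoryTheory.Limits CategoryTheory.Pretriangulated DerivedCategory
open Groth.Agent.Lib.Helper84

attribute [local instance] HasDerivedCategory.standard

variable {A : Type u} [CommRing A] [IsLocalRing A]

/-- at the closed point of a local ring, `LocZero` means zero -/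
theorem subsingleton_of_locZero_closedPoint (N : Type*) [AddCommGroup N] [Module A N]
    (h : LocZero (IsLocalRing.closedPoint A).asIdeal.primeCompl N) : Subsingleton N := by
  refine ⟨fun x y => ?_⟩
  suffices key : ∀ m : N, m = 0 by rw [key x, key y]
  intro m
  obtain ⟨r, hr, hrm⟩ := h m
  have hu : IsUnit r := by
    by_contra hnu
    exact hr ((IsLocalRing.mem_maximalIdeal r).2 hnu)
  obtain ⟨u, rfl⟩ := hu
  rw [← one_smul A m, ← Units.inv_mul u, mul_smul, hrm, smul_zero]

variable [IsNoetherianRing A]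

/-- **Vanishing above**: if `Ext^j(κ, I) = 0` for `j > n` then `Ext^k(M, I) = 0` for all finite
`M` and `k > n`. -/
theorem ext_vanish_above (I : DRing.Cx A) (a b : ℤ) (hab : a ≤ b) (hI : ∀ n, Injective (I.X n))
    (hz : ∀ i, (i < a ∨ b < i) → IsZero (I.X i))
    (hfinH : ∀ i : ℤ, Module.Finite A (Dual.HD A (Q.obj I) i)) (n : ℤ)
    (hκ : ∀ j : ℤ, n < j →
      Subsingleton (Dual.inD A (A ⧸ IsLocalRing.maximalIdeal A) ⟶ (Q.obj I)⟦j⟧)) :
    ∀ (k : ℤ), n < k → ∀ (M : Type u) [AddCommGroup M] [Module A M] [Module.Finite A M],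
      Subsingleton (Dual.inD A M ⟶ (Q.obj I)⟦k⟧) := by
  have hBF : HomFinite.BddFin (Q.obj I) :=
    ⟨⟨a, b, fun i hi => HomFinite.isZero_homology_Q I i (hz i hi)⟩, hfinH⟩
  let cp := IsLocalRing.closedPoint A
  have key : ∀ (t : ℕ) (k : ℤ), n < k → b < k + t →
      ∀ (M : Type u) [AddCommGroup M] [Module A M] [Module.Finite A M],
        LocZero cp.asIdeal.primeCompl (Dual.inD A M ⟶ (Q.obj I)⟦k⟧) := by
    intro t
    induction t with
    | zero =>
      intro k _ hbk M _ _ _
      have h0 := (Groth.Agent.S12537.result (ModuleCat.{u} A) (Q.obj I) a b hab).2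
        ⟨I, hI, hz, ⟨Iso.refl _⟩⟩ (ModuleCat.of A M) k (Or.inr (by simpa using hbk))
      haveI : Subsingleton (Dual.inD A M ⟶ (Q.obj I)⟦k⟧) := ⟨fun f g => by rw [h0 f, h0 g]⟩
      exact locZero_of_subsingleton _ _
    | succ t ih =>
      intro k hnk hbk M _ _ hfin
      have hP : ∀ (M' : Type u) [AddCommGroup M'] [Module A M'] [Module.Finite A M'],
          LocZero cp.asIdeal.primeCompl (Dual.inD A M' ⟶ ((Q.obj I)⟦k⟧)⟦(1 : ℤ)⟧) := by
        intro M' _ _ _
        exact LocZero.of_linearEquiv (Linear.homCongr A (Iso.refl _)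
          ((shiftFunctorAdd' (Dual.D A) k 1 (k + 1) rfl).app (Q.obj I)))
          (ih (k + 1) (by omega) (by push_cast at hbk ⊢; omega) M')
      induction hfin using IsNoetherianRing.induction_on_isQuotientEquivQuotientPrime A with
      | subsingleton N =>
        have h0 : IsZero (Dual.inD A N) :=
          Functor.map_isZero (DerivedCategory.singleFunctor (ModuleCat.{u} A) 0)
            (ModuleCat.isZero_of_subsingleton _)
        haveI : Subsingleton (Dual.inD A N ⟶ (Q.obj I)⟦k⟧) := ⟨fun f g => h0.eq_of_src f g⟩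
        exact locZero_of_subsingleton _ _
      | quotient N p' f =>
        have hq : LocZero cp.asIdeal.primeCompl
            (Dual.inD A (A ⧸ p'.asIdeal) ⟶ (Q.obj I)⟦k⟧) := by
          by_cases hp' : p' = cp
          · subst hp'
            exact @locZero_of_subsingleton _ _ _ _ _ _ (hκ k hnk)
          · have hle : p' ≤ cp := IsLocalRing.le_maximalIdeal p'.isPrime.ne_top
            have hlt : p'.asIdeal < cp.asIdeal := lt_of_le_of_ne hle (fun h => hp' (PrimeSpectrum.ext h))
            obtain ⟨x, hxq, hxp⟩ := SetLike.exists_of_lt hlt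
            have hnoeth := HomFinite.noeth_single_left (ModuleCat.of A (A ⧸ p'.asIdeal)) 0
              (Q.obj I) hBF k
            haveI : IsNoetherian A (Dual.inD A (A ⧸ p'.asIdeal) ⟶ (Q.obj I)⟦k⟧) := hnoeth
            exact locZero_hom_quot_core p' cp x hxq hxp _ inferInstance (hP _)
        exact LocZero.of_linearEquiv (Linear.homCongr A
          ((DerivedCategory.singleFunctor (ModuleCat.{u} A) 0).mapIso f.symm.toModuleIso)
          (Iso.refl _)) hq
      | exact N₁ N₂ N₃ f g hf hg hfg h₁ h₃ =>
        exact locZero_hom_of_exact _ _ f g hf hg hfg h₁ h₃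
  intro k hnk M _ _ _
  have hb : b < k + ((b - k + 1).toNat : ℕ) := by
    have := Int.self_le_toNat (b - k + 1)
    omega
  exact subsingleton_of_locZero_closedPoint _ (key _ k hnk hb M)

end Groth.Agent.Lib.Helper25.LocDual
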