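import Groth.Prelude.Def_Wider
import Mathlib

/-!
# Vanishing of `Hom(M, X)` in `D(B)` for finite length modules `M` over a local ring,
from the vanishing of `Hom(κ, X)`.
-/

set_option autoImplicit false
universe u

namespace Groth.Agent.Lib.Helper25.LocDual

open CategoryTheory CategoryTheory.Limits CategoryTheory.Pretriangulated DerivedCategory

attribute [local instance] HasDerivedCategory.standard

variable {B : Type u} [CommRing B]

theorem subsingleton_hom_of_linearEquiv (X : Dual.D B) {M N : Type u} [AddCommGroup M] [Module B M]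
    [AddCommGroup N] [Module B N] (e : M ≃ₗ[B] N) (h : Subsingleton (Dual.inD B N ⟶ X)) :
    Subsingleton (Dual.inD B M ⟶ X) := by
  let ι : Dual.inD B M ≅ Dual.inD B N :=
    (DerivedCategory.singleFunctor (ModuleCat.{u} B) 0).mapIso e.toModuleIso
  exact ⟨fun f g => by
    rw [← cancel_epi ι.inv]
    exact Subsingleton.elim _ _⟩

theorem subsingleton_hom_of_isFiniteLength [IsLocalRing B] (X : Dual.D B)
    (hκ : Subsingleton (Dual.inD B (B ⧸ IsLocalRing.maximalIdeal B) ⟶ X))
    (M : Type u) [AddCommGroup M] [Module B M] (hM : IsFiniteLength B M) :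
    Subsingleton (Dual.inD B M ⟶ X) := by
  induction hM with
  | @of_subsingleton M _ _ _ =>
    have h0 : IsZero (Dual.inD B M) :=
      Functor.map_isZero (DerivedCategory.singleFunctor (ModuleCat.{u} B) 0)
        (ModuleCat.isZero_of_subsingleton _)
    exact ⟨fun f g => h0.eq_of_src f g⟩
  | @of_simple_quotient M _ _ N hs h ih =>
    obtain ⟨I, hI, ⟨e⟩⟩ := isSimpleModule_iff_quot_maximal.mp hs
    have hIm := IsLocalRing.eq_maximalIdeal hI
    subst hIm
    have hQ : Subsingleton (Dual.inD B (M ⧸ N) ⟶ X) := subsingleton_hom_of_linearEquiv X e hκ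
    let S : ShortComplex (ModuleCat.{u} B) :=
      ShortComplex.mk (ModuleCat.ofHom N.subtype) (ModuleCat.ofHom N.mkQ) (by
        ext x
        simp)
    have hS : S.ShortExact :=
      ModuleCat.shortComplex_shortExact S (LinearMap.exact_subtype_mkQ N)
        (Submodule.injective_subtype N) (Submodule.mkQ_surjective N)
    have hT := hS.singleTriangle_distinguished
    suffices key : ∀ f : Dual.inD B M ⟶ X, f = 0 from ⟨fun f g => by rw [key f, key g]⟩
    intro f
    have h1 : (DerivedCategory.singleFunctor (ModuleCat.{u} B) 0).map S.f ≫ f = 0 :=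
      ih.elim _ _
    obtain ⟨g, hg⟩ := Triangle.yoneda_exact₂ _ hT f h1
    have hg0 : g = 0 := hQ.elim _ _
    rw [hg, hg0]
    exact comp_zero

end Groth.Agent.Lib.Helper25.LocDual
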