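import Groth.Agent.Lib.Helper25.LocDual.LocEnd
import Groth.Agent.Lib.Helper25.LocDual.LocDev

/-!
# Localization of `Hom(X, ω[n])` and the extension/restriction adjunction on `Hom` in `D`
-/

set_option autoImplicit false
universe u

namespace Groth.Agent.Lib.Helper25.LocDual

open CategoryTheory CategoryTheory.Limits CochainComplex CochainComplex.HomComplex DerivedCategory
open Groth.Agent.Lib.Helper25.LocColim Groth.Agent.Lib.Helper25.Bidual

attribute [local instance] HasDerivedCategory.standard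

/-- vanishing of the localization of a module -/
def LocZero {A : Type*} [CommRing A] (S : Submonoid A) (N : Type*) [AddCommGroup N] [Module A N] :
    Prop :=
  ∀ m : N, ∃ r ∈ S, r • m = 0

theorem locZero_iff_subsingleton {A : Type*} [CommRing A] (S : Submonoid A) (N : Type*)
    [AddCommGroup N] [Module A N] : LocZero S N ↔ Subsingleton (LocalizedModule S N) :=
  LocalizedModule.subsingleton_iff.symm

theorem LocZero.of_linearEquiv {A : Type*} [CommRing A] {S : Submonoid A} {N N' : Type*}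
    [AddCommGroup N] [Module A N] [AddCommGroup N'] [Module A N'] (e : N ≃ₗ[A] N')
    (h : LocZero S N) : LocZero S N' := by
  intro m
  obtain ⟨r, hr, h0⟩ := h (e.symm m)
  refine ⟨r, hr, ?_⟩
  have := congrArg e h0
  rwa [map_smul, e.apply_symm_apply, map_zero] at this

theorem LocZero.mono {A : Type*} [CommRing A] {S S' : Submonoid A} (hS : S ≤ S') {N : Type*}
    [AddCommGroup N] [Module A N] (h : LocZero S N) : LocZero S' N := by
  intro m
  obtain ⟨r, hr, h0⟩ := h m
  exact ⟨r, hS hr, h0⟩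

variable {A B : Type u} [CommRing A] [CommRing B] (φ : A →+* B) (S : Submonoid A)

/-- the adjunction on `Hom` in the derived categories, at the level of vanishing -/
theorem subsingleton_hom_ext_iff (X' : DRing.Cx A) (Y : DRing.Cx B) [Y.IsKInjective]
    [((DTen.resCx φ).obj Y).IsKInjective] (n : ℤ) :
    Subsingleton (Q.obj ((DTen.extCx φ).obj X') ⟶ (Q.obj Y)⟦n⟧) ↔
      Subsingleton (Q.obj X' ⟶ (Q.obj ((DTen.resCx φ).obj Y))⟦n⟧) := by
  constructor
  · intro h
    suffices ∀ g : Q.obj X' ⟶ (Q.obj ((DTen.resCx φ).obj Y))⟦n⟧, g = 0 from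
      ⟨fun g g' => by rw [this g, this g']⟩
    intro g
    obtain ⟨ζ, rfl⟩ := kappa_surjective _ _ n g
    rw [kappa_mk_eq_zero_iff, mem_coboundaries_iff _ (n - 1) (by omega)]
    obtain ⟨z, hz⟩ := exists_flat_eq φ X' Y ζ.1
    have hz0 : δ n (n + 1) z = 0 := by
      apply flat_injective φ X' Y
      rw [← δ_flat, hz, Cocycle.δ_eq_zero, flat, Cochain.map_zero, Cochain.comp_zero]
    let z' : Cocycle ((DTen.extCx φ).obj X') Y n := Cocycle.mk z (n + 1) rfl hz0
    have h0 : kappa _ _ n (CohomologyClass.mk z') = 0 := h.elim _ _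
    rw [kappa_mk_eq_zero_iff, mem_coboundaries_iff _ (n - 1) (by omega)] at h0
    obtain ⟨w, hw⟩ := h0
    refine ⟨flat φ X' Y w, ?_⟩
    rw [δ_flat, hw]
    exact hz
  · intro h
    suffices ∀ g : Q.obj ((DTen.extCx φ).obj X') ⟶ (Q.obj Y)⟦n⟧, g = 0 from
      ⟨fun g g' => by rw [this g, this g']⟩
    intro g
    obtain ⟨z, rfl⟩ := kappa_surjective _ _ n g
    rw [kappa_mk_eq_zero_iff, mem_coboundaries_iff _ (n - 1) (by omega)]
    let ζ : Cocycle X' ((DTen.resCx φ).obj Y) n := Cocycle.mk (flat φ X' Y z.1) (n + 1) rfl (by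
      rw [δ_flat, Cocycle.δ_eq_zero, flat]
      rw [Cochain.map_zero, Cochain.comp_zero])
    have h0 : kappa _ _ n (CohomologyClass.mk ζ) = 0 := h.elim _ _
    rw [kappa_mk_eq_zero_iff, mem_coboundaries_iff _ (n - 1) (by omega)] at h0
    obtain ⟨w, hw⟩ := h0
    obtain ⟨w', hw'⟩ := exists_δ_eq_of_flat φ X' Y z.1 w hw.symm
    exact ⟨w', hw'.symm⟩

/-- `S` acts injectively on `Hom(X, (res Y)[n])` -/
theorem eq_zero_of_smul_hom_res (Y : DRing.Cx B) (X : Dual.D A) (n : ℤ) (s : A)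
    (hs : IsUnit (φ s)) (y : X ⟶ (Q.obj ((DTen.resCx φ).obj Y))⟦n⟧) (hy : s • y = 0) : y = 0 := by
  obtain ⟨σ, hσ⟩ := hs
  let β : (DTen.resCx φ).obj Y ⟶ (DTen.resCx φ).obj Y :=
    (DTen.resCx φ).map ((σ⁻¹ : Bˣ).1 • 𝟙 Y)
  have h1 : (s • 𝟙 ((DTen.resCx φ).obj Y)) ≫ β = 𝟙 _ := by
    have h2 : s • 𝟙 ((DTen.resCx φ).obj Y) = (DTen.resCx φ).map (φ s • 𝟙 Y) := by
      ext q x
      rfl
    rw [h2, ← Functor.map_comp, Linear.smul_comp, Linear.comp_smul, Category.id_comp, smul_smul,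
      ← hσ, Units.mul_inv, one_smul, CategoryTheory.Functor.map_id]
  have h3 : y = (s • y) ≫ (Q.map β)⟦n⟧' := by
    have : s • y = y ≫ (Q.map (s • 𝟙 ((DTen.resCx φ).obj Y)))⟦n⟧' := by
      rw [Functor.map_smul, CategoryTheory.Functor.map_id, Functor.map_smul,
        CategoryTheory.Functor.map_id, Linear.comp_smul, Category.comp_id]
    rw [this, Category.assoc, ← Functor.map_comp, ← Functor.map_comp, h1,
      CategoryTheory.Functor.map_id, CategoryTheory.Functor.map_id, Category.comp_id]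
  rw [h3, hy, zero_comp]

/-- localization of `Hom(X, I[n])` vanishes iff `Hom(X, (res ext I)[n])` vanishes -/
theorem locZero_hom_iff (hunit : ∀ s : S, IsUnit (φ s)) (I : DRing.Cx A) (X : Dual.D A) (n : ℤ)
    (hLoc : LocProp S ((Q.map (vv φ I))⟦n⟧') X) :
    LocZero S (X ⟶ (Q.obj I)⟦n⟧) ↔ Subsingleton (X ⟶ (Q.obj (II' φ I))⟦n⟧) := by
  constructor
  · intro h
    suffices ∀ y : X ⟶ (Q.obj (II' φ I))⟦n⟧, y = 0 from ⟨fun g g' => by rw [this g, this g']⟩
    intro y
    obtain ⟨s, x, hx⟩ := hLoc.surj y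
    obtain ⟨r, hr, hrx⟩ := h x
    have h1 : (r * (s : A)) • y = 0 := by
      rw [mul_smul, hx, ← Linear.smul_comp, hrx, zero_comp]
    exact eq_zero_of_smul_hom_res φ _ X n _ (hunit ⟨r * s, S.mul_mem hr s.2⟩) y h1
  · intro h x
    obtain ⟨s, hs⟩ := hLoc.inj x (h.elim _ _)
    exact ⟨s, s.2, hs⟩

end Groth.Agent.Lib.Helper25.LocDual
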