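import Groth.Agent.Lib.Helper25.LocDual.HomLocSingle
import Groth.Agent.Lib.Helper25.LocDual.FinLen

/-!
# Localization of `Ext^n(A/p, ω)` at `p`
-/

set_option autoImplicit false
universe u

namespace Groth.Agent.Lib.Helper25.LocDual

open CategoryTheory CategoryTheory.Limits CategoryTheory.Pretriangulated DerivedCategory
open Groth.Agent.Lib.Helper84 Groth.Agent.Lib.Helper25.Bidual

attribute [local instance] HasDerivedCategory.standard

variable {A B : Type u} [CommRing A] [CommRing B] (φ : A →+* B)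

/-- `B ⊗ A/p ≅ B/m` for the localization `B` of `A` at `p` -/
theorem nonempty_ext_quot_prime_iso [IsLocalRing B] (p : Ideal A) [p.IsPrime]
    (hloc : @IsLocalization A _ p.primeCompl B _ φ.toAlgebra) :
    Nonempty ((ModuleCat.extendScalars.{u, u, u} φ).obj (ModuleCat.of A (A ⧸ p)) ≅
      ModuleCat.of B (B ⧸ IsLocalRing.maximalIdeal B)) := by
  letI := φ.toAlgebra
  haveI : IsLocalization.AtPrime B p := hloc
  have hm : p.map (algebraMap A B) = IsLocalRing.maximalIdeal B :=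
    IsLocalization.AtPrime.map_eq_maximalIdeal p B
  let e1 : (B ⧸ p.map (algebraMap A B)) ≃ₗ[B] TensorProduct A B (A ⧸ p) :=
    (Algebra.TensorProduct.quotIdealMapEquivTensorQuot B p).toLinearEquiv
  let e2 : (B ⧸ p.map (algebraMap A B)) ≃ₗ[B] (B ⧸ IsLocalRing.maximalIdeal B) :=
    Submodule.quotEquivOfEq _ _ hm
  exact ⟨(e1.symm ≪≫ₗ e2).toModuleIso⟩

theorem locZero_hom_quot_prime_iff [IsNoetherianRing A] [IsLocalRing B] (p : Ideal A) [p.IsPrime]
    (hloc : @IsLocalization A _ p.primeCompl B _ φ.toAlgebra)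
    (I : DRing.Cx A) (a b : ℤ) (hI : ∀ n, Injective (I.X n))
    (hz : ∀ i, (i < a ∨ b < i) → IsZero (I.X i)) (n : ℤ) :
    LocZero p.primeCompl (Dual.inD A (A ⧸ p) ⟶ (Q.obj I)⟦n⟧) ↔
      Subsingleton (Dual.inD B (B ⧸ IsLocalRing.maximalIdeal B) ⟶ (Q.obj (JJ φ I))⟦n⟧) := by
  obtain ⟨e⟩ := nonempty_ext_quot_prime_iso φ p hloc
  rw [locZero_hom_single_iff φ _ hloc I a b hI hz (ModuleCat.of A (A ⧸ p)) n]
  exact subsingleton_hom_congr_left
    ((DerivedCategory.singleFunctor (ModuleCat.{u} B) 0).mapIso e)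

end Groth.Agent.Lib.Helper25.LocDual
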