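import Groth.Agent.Lib.Helper25.LocDual.SingleP
import Groth.Agent.Lib.Helper25.LocDual.LocProp
import Mathlib.Algebra.Module.FinitePresentation

/-!
# The base case: finitely presented modules placed in one degree
-/

set_option autoImplicit false
universe u

namespace Groth.Agent.Lib.Helper25.LocDual

open CategoryTheory CategoryTheory.Limits CochainComplex CochainComplex.HomComplex DerivedCategory

attribute [local instance] HasDerivedCategory.standard

variable {A : Type u} [CommRing A] (S : Submonoid A)
  {I I' : CochainComplex (ModuleCat.{u} A) ℤ} [I.IsKInjective] [I'.IsKInjective] (v : I ⟶ I')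
  (hv : ∀ q : ℤ, IsLocalizedModule S (v.f q).hom)

include hv in
theorem locProp_single (M : ModuleCat.{u} A) [Module.FinitePresentation A M] (p n : ℤ) :
    LocProp S ((Q.map v)⟦n⟧') (Q.obj (sglP p M)) := by
  have h : p + n = p + n := rfl
  constructor
  · intro y
    obtain ⟨f', hf', rfl⟩ := exists_repP I' h y
    haveI := hv (p + n)
    obtain ⟨f, s, hfs⟩ := Module.FinitePresentation.exists_lift_of_isLocalizedModule S
      (v.f (p + n)).hom f'.hom
    have hfs' : ModuleCat.ofHom f ≫ v.f (p + n) = (s : A) • f' := by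
      ext x
      exact LinearMap.congr_fun hfs x
    haveI := hv (p + n + 1)
    have h0 : (v.f (p + n + 1)).hom.comp (ModuleCat.ofHom f ≫ I.d (p + n) (p + n + 1)).hom =
        (v.f (p + n + 1)).hom.comp (0 : M →ₗ[A] I.X (p + n + 1)) := by
      rw [LinearMap.comp_zero]
      have : (ModuleCat.ofHom f ≫ I.d (p + n) (p + n + 1)) ≫ v.f (p + n + 1) = 0 := by
        rw [Category.assoc, ← v.comm, ← Category.assoc, hfs', Linear.smul_comp, hf', smul_zero]
      exact congrArg ModuleCat.Hom.hom this
    obtain ⟨t, ht⟩ := Module.Finite.exists_smul_of_comp_eq_of_isLocalizedModule S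
      (v.f (p + n + 1)).hom _ _ h0
    rw [smul_zero] at ht
    have ht' : ((t : A) • ModuleCat.ofHom f) ≫ I.d (p + n) (p + n + 1) = 0 := by
      rw [Linear.smul_comp]
      ext x
      exact LinearMap.congr_fun ht x
    refine ⟨t * s, phiP I h ((t : A) • ModuleCat.ofHom f) ht', ?_⟩
    rw [phiP_postcomp, smul_phiP]
    congr 1
    rw [Linear.smul_comp, hfs', Submonoid.coe_mul, mul_smul]
  · intro x hx
    obtain ⟨f, hf, rfl⟩ := exists_repP I h x
    rw [phiP_postcomp, phiP_eq_zero_iff] at hx
    obtain ⟨g', hg'⟩ := hx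
    haveI := hv (p + n - 1)
    obtain ⟨g, s, hgs⟩ := Module.FinitePresentation.exists_lift_of_isLocalizedModule S
      (v.f (p + n - 1)).hom g'.hom
    have hgs' : ModuleCat.ofHom g ≫ v.f (p + n - 1) = (s : A) • g' := by
      ext x
      exact LinearMap.congr_fun hgs x
    haveI := hv (p + n)
    have h0 : (v.f (p + n)).hom.comp ((s : A) • f).hom =
        (v.f (p + n)).hom.comp (ModuleCat.ofHom g ≫ I.d (p + n - 1) (p + n)).hom := by
      have : ((s : A) • f) ≫ v.f (p + n) =
          (ModuleCat.ofHom g ≫ I.d (p + n - 1) (p + n)) ≫ v.f (p + n) := by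
        rw [Category.assoc, ← v.comm, ← Category.assoc, hgs', Linear.smul_comp, Linear.smul_comp,
          hg']
      exact congrArg ModuleCat.Hom.hom this
    obtain ⟨t, ht⟩ := Module.Finite.exists_smul_of_comp_eq_of_isLocalizedModule S
      (v.f (p + n)).hom _ _ h0
    refine ⟨t * s, ?_⟩
    rw [smul_phiP]
    refine phiP_eq_zero_of I h _ _ ((t : A) • ModuleCat.ofHom g) ?_
    rw [Linear.smul_comp, Submonoid.coe_mul, mul_smul]
    ext x
    exact (LinearMap.congr_fun ht x).symm

end Groth.Agent.Lib.Helper25.LocDual
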