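import Mathlib.Algebra.Module.FinitePresentation
import Mathlib.Algebra.Module.Injective
import Mathlib.RingTheory.Localization.Ideal
import Mathlib.RingTheory.Noetherian.Basic

/-!
# Localizations of injective modules over a Noetherian ring are injective
-/

set_option autoImplicit false
universe u

namespace Groth.Agent.Lib.Helper25.LocDual

variable {A : Type u} [CommRing A] [IsNoetherianRing A] (S : Submonoid A)
  (B : Type u) [CommRing B] [Algebra A B] [IsLocalization S B]
  {I : Type u} [AddCommGroup I] [Module A I]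
  {M' : Type u} [AddCommGroup M'] [Module A M'] [Module B M'] [IsScalarTower A B M']
  (f : I →ₗ[A] M') [IsLocalizedModule S f]

include S f in
theorem injective_of_isLocalizedModule [Module.Injective A I] : Module.Injective B M' := by
  apply Module.Baer.injective
  intro 𝔟 g
  -- the contraction of `𝔟`
  let 𝔞 : Ideal A := 𝔟.comap (algebraMap A B)
  let ι : 𝔞 →ₗ[A] 𝔟 :=
    { toFun := fun a => ⟨algebraMap A B a.1, a.2⟩
      map_add' := fun a b => Subtype.ext (map_add _ _ _)
      map_smul' := fun r a => Subtype.ext (by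
        simp [Algebra.smul_def]) }
  let g₀ : 𝔞 →ₗ[A] M' := (g.restrictScalars A).comp ι
  haveI : Module.FinitePresentation A 𝔞 := Module.finitePresentation_of_finite A 𝔞
  obtain ⟨h, s, hs⟩ := Module.FinitePresentation.exists_lift_of_isLocalizedModule S f g₀
  obtain ⟨h', hh'⟩ := Module.Baer.of_injective (R := A) (Q := I) inferInstance 𝔞 h
  let y : I := h' 1
  have hy : ∀ a : 𝔞, h a = (a : A) • y := by
    intro a
    rw [← hh' a.1 a.2]
    change h' a.1 = a.1 • h' 1
    rw [← map_smul, smul_eq_mul, mul_one]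
  have hsu : IsUnit (algebraMap A B s) := IsLocalization.map_units B s
  obtain ⟨σ, hσ⟩ := hsu
  let z : M' := (σ⁻¹ : Bˣ).1 • f y
  have hsz : (s : A) • z = f y := by
    change (s : A) • ((σ⁻¹ : Bˣ).1 • f y) = f y
    rw [← algebraMap_smul B (s : A), ← hσ, smul_smul, Units.mul_inv, one_smul]
  refine ⟨LinearMap.toSpanSingleton B M' z, fun b hb => ?_⟩
  rw [LinearMap.toSpanSingleton_apply]
  obtain ⟨⟨a, t⟩, hat⟩ := IsLocalization.surj S b
  dsimp only at hat
  have ha : a ∈ 𝔞 := by
    change algebraMap A B a ∈ 𝔟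
    rw [← hat]
    exact 𝔟.mul_mem_right _ hb
  -- `s • t • g b = s • t • (b • z)`
  have h1 : f (h ⟨a, ha⟩) = (s : A) • g₀ ⟨a, ha⟩ := by
    exact LinearMap.congr_fun hs ⟨a, ha⟩
  have h2 : g₀ ⟨a, ha⟩ = (t : A) • g ⟨b, hb⟩ := by
    change g ⟨algebraMap A B a, _⟩ = (t : A) • g ⟨b, hb⟩
    rw [← algebraMap_smul B (t : A), ← map_smul]
    congr 1
    apply Subtype.ext
    change algebraMap A B a = algebraMap A B t • b
    rw [smul_eq_mul, mul_comm, hat]
  have h3 : (s : A) • (t : A) • g ⟨b, hb⟩ = (s : A) • (t : A) • (b • z) := by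
    rw [← h2, ← h1, hy, map_smul]
    change a • f y = _
    rw [← hsz, smul_comm (t : A) b z, ← algebraMap_smul B (t : A) z, smul_smul b,
      hat, algebraMap_smul, smul_comm a (s : A) z]
  have hu : ∀ (r : S) (m m' : M'), (r : A) • m = (r : A) • m' → m = m' := by
    intro r m m' hm
    have := (Module.End.isUnit_iff _).mp (IsLocalizedModule.map_units f r)
    exact this.1 hm
  exact (hu t _ _ (hu s _ _ h3)).symm

end Groth.Agent.Lib.Helper25.LocDual
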