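import Groth.Agent.Lib.Helper25.LocDual.LocInj
import Groth.Agent.Lib.Helper84.FlatBC
import Mathlib.Algebra.Category.ModuleCat.Injective
import Mathlib.RingTheory.Localization.BaseChange

/-!
# Extension of scalars along a localization preserves injectives (Noetherian case);
restriction of scalars along a flat map preserves injectives.
-/

set_option autoImplicit false
universe u

open CategoryTheory CategoryTheory.Limits

namespace Groth.Agent.Lib.Helper25.LocDual

variable {A B : Type u} [CommRing A] [CommRing B] (φ : A →+* B)

theorem injective_ext [IsNoetherianRing A] (S : Submonoid A)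
    (hloc : @IsLocalization A _ S B _ φ.toAlgebra) (I : ModuleCat.{u} A) [Injective I] :
    Injective ((ModuleCat.extendScalars.{u, u, u} φ).obj I) := by
  letI := φ.toAlgebra
  haveI := hloc
  haveI : Module.Injective A I := (Module.injective_iff_injective_object A I).2 inferInstance
  have hb : IsBaseChange B (TensorProduct.mk A B I 1) := TensorProduct.isBaseChange A I B
  haveI : IsLocalizedModule S (TensorProduct.mk A B I 1) :=
    (isLocalizedModule_iff_isBaseChange S B _).2 hb
  have key : Module.Injective B (TensorProduct A B I) :=
    injective_of_isLocalizedModule S B (TensorProduct.mk A B I 1)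
  exact (Module.injective_iff_injective_object B (TensorProduct A B I)).1 key

theorem injective_res (hφ : φ.Flat) (J : ModuleCat.{u} B) [Injective J] :
    Injective ((ModuleCat.restrictScalars.{u} φ).obj J) := by
  haveI : PreservesFiniteLimits (Groth.Agent.Lib.Helper84.FlatBC.ext φ) :=
    Groth.Agent.Lib.Helper84.FlatBC.preservesFiniteLimits_ext φ hφ
  haveI : (ModuleCat.extendScalars.{u, u, u} φ).PreservesMonomorphisms := inferInstance
  exact Injective.injective_of_adjoint (ModuleCat.extendRestrictScalarsAdj.{u, u, u} φ) J

end Groth.Agent.Lib.Helper25.LocDual
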