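import Groth.Agent.Lib.Helper25.LocColim.Kappa
import Mathlib.Algebra.Homology.DerivedCategory.Linear
import Mathlib.Algebra.Category.ModuleCat.Abelian

/-!
# Morphisms `M[-p] ⟶ L⟦n⟧` in `D(A)` for a K-injective complex `L` (general `p`)
-/

set_option autoImplicit false
universe u

namespace Groth.Agent.Lib.Helper25.LocDual

open CategoryTheory CategoryTheory.Limits CochainComplex CochainComplex.HomComplex DerivedCategory
open Groth.Agent.Lib.Helper25.LocColim

attribute [local instance] HasDerivedCategory.standard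

variable {A : Type u} [CommRing A]

/-- the module `M` as a complex in degree `p` -/
noncomputable abbrev sglP (p : ℤ) (M : ModuleCat.{u} A) : CochainComplex (ModuleCat.{u} A) ℤ :=
  (CochainComplex.singleFunctor (ModuleCat.{u} A) p).obj M

theorem kappa_mk_postcomp {K L L' : CochainComplex (ModuleCat.{u} A) ℤ} {n : ℤ}
    (x : Cocycle K L n) (v : L ⟶ L') :
    kappa K L n (CohomologyClass.mk x) ≫ (Q.map v)⟦n⟧' =
      kappa K L' n (CohomologyClass.mk (x.postcomp v)) := by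
  rw [kappa_mk, kappa_mk, Cocycle.equivHomShift_symm_postcomp, Functor.map_comp, Category.assoc,
    Category.assoc]
  congr 1
  exact ((Q.commShiftIso n).hom.naturality v).symm

variable (L : CochainComplex (ModuleCat.{u} A) ℤ) {p n q : ℤ} (h : p + n = q)

/-- the morphism `M[-p] ⟶ L⟦n⟧` in `D(A)` attached to `f : M ⟶ L^q` (`q = p + n`) with
`f ≫ d = 0` -/
noncomputable def phiP {M : ModuleCat.{u} A} (f : M ⟶ L.X q) (hf : f ≫ L.d q (q + 1) = 0) :
    Q.obj (sglP p M) ⟶ (Q.obj L)⟦n⟧ :=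
  kappa (sglP p M) L n (CohomologyClass.mk (Cocycle.fromSingleMk f h (q + 1) rfl hf))

theorem exists_repP [L.IsKInjective] {M : ModuleCat.{u} A}
    (φ : Q.obj (sglP p M) ⟶ (Q.obj L)⟦n⟧) :
    ∃ (f : M ⟶ L.X q) (hf : f ≫ L.d q (q + 1) = 0), phiP L h f hf = φ := by
  obtain ⟨x, rfl⟩ := kappa_surjective (sglP p M) L n φ
  obtain ⟨f, hf, rfl⟩ := Cocycle.fromSingleMk_surjective x q h (q + 1) rfl
  exact ⟨f, hf, rfl⟩

theorem phiP_eq_zero_iff [L.IsKInjective] {M : ModuleCat.{u} A} (f : M ⟶ L.X q)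
    (hf : f ≫ L.d q (q + 1) = 0) :
    phiP L h f hf = 0 ↔ ∃ g : M ⟶ L.X (q - 1), g ≫ L.d (q - 1) q = f := by
  unfold phiP
  rw [kappa_mk_eq_zero_iff]
  exact Cocycle.fromSingleMk_mem_coboundaries_iff f h (q + 1) rfl hf (q - 1) (by omega)

theorem phiP_eq_zero_of {M : ModuleCat.{u} A} (f : M ⟶ L.X q)
    (hf : f ≫ L.d q (q + 1) = 0) (g : M ⟶ L.X (q - 1)) (hg : g ≫ L.d (q - 1) q = f) :
    phiP L h f hf = 0 := by
  unfold phiP
  change kappaCoc _ _ _ _ = 0
  exact kappaCoc_eq_zero_of_mem _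
    ((Cocycle.fromSingleMk_mem_coboundaries_iff f h (q + 1) rfl hf (q - 1) (by omega)).2 ⟨g, hg⟩)

theorem phiP_precomp {M M' : ModuleCat.{u} A} (g : M' ⟶ M) (f : M ⟶ L.X q)
    (hf : f ≫ L.d q (q + 1) = 0) :
    Q.map ((CochainComplex.singleFunctor (ModuleCat.{u} A) p).map g) ≫ phiP L h f hf =
      phiP L h (g ≫ f) (by rw [Category.assoc, hf, comp_zero]) := by
  unfold phiP
  rw [Cocycle.fromSingleMk_precomp g f h (q + 1) rfl hf, kappa_mk_precomp]

theorem smul_phiP {M : ModuleCat.{u} A} (a : A) (f : M ⟶ L.X q)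
    (hf : f ≫ L.d q (q + 1) = 0) :
    a • phiP L h f hf =
      phiP L h (a • f) (by rw [Linear.smul_comp, hf, smul_zero]) := by
  have h1 : a • phiP L h f hf =
      Q.map ((CochainComplex.singleFunctor (ModuleCat.{u} A) p).map (a • 𝟙 M)) ≫
        phiP L h f hf := by
    rw [Functor.map_smul, Functor.map_smul, CategoryTheory.Functor.map_id,
      CategoryTheory.Functor.map_id, Linear.smul_comp, Category.id_comp]
  rw [h1, phiP_precomp]
  congr 1
  rw [Linear.smul_comp, Category.id_comp]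

theorem phiP_postcomp {L' : CochainComplex (ModuleCat.{u} A) ℤ} (v : L ⟶ L')
    {M : ModuleCat.{u} A} (f : M ⟶ L.X q) (hf : f ≫ L.d q (q + 1) = 0) :
    phiP L h f hf ≫ (Q.map v)⟦n⟧' =
      phiP L' h (f ≫ v.f q) (by rw [Category.assoc, v.comm, reassoc_of% hf, zero_comp]) := by
  unfold phiP
  rw [kappa_mk_postcomp, Cocycle.fromSingleMk_postcomp f h (q + 1) rfl hf v]

end Groth.Agent.Lib.Helper25.LocDual
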