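import Groth.Agent.Lib.Helper25.LocDual.LocInjCat

/-!
# The unit `M ⟶ res (ext M)` of a localization is a localization map
-/

set_option autoImplicit false
universe u

open CategoryTheory CategoryTheory.Limits

namespace Groth.Agent.Lib.Helper25.LocDual

variable {A B : Type u} [CommRing A] [CommRing B] (φ : A →+* B)

theorem isLocalizedModule_unit (S : Submonoid A)
    (hloc : @IsLocalization A _ S B _ φ.toAlgebra) (M : ModuleCat.{u} A) :
    IsLocalizedModule S ((ModuleCat.extendRestrictScalarsAdj.{u, u, u} φ).unit.app M).hom := by
  letI := φ.toAlgebra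
  haveI := hloc
  have hb : IsBaseChange B (TensorProduct.mk A B M 1) := TensorProduct.isBaseChange A M B
  have h1 : IsLocalizedModule S (TensorProduct.mk A B M 1) :=
    (isLocalizedModule_iff_isBaseChange S B _).2 hb
  exact h1

end Groth.Agent.Lib.Helper25.LocDual
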